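/-
Binary actions on cosets: witnesses from intersections of conjugates of the stabiliser.
-/
import Mathlib

namespace CfsgLib.BinaryCosets

variable {G : Type*} [Group G]

/-- Pairwise equivalent tuples of cosets are equivalent. -/
def Binary (H : Subgroup G) : Prop :=
  ∀ (n : ℕ) (I J : Fin n → G ⧸ H), 2 ≤ n →
    (∀ i j : Fin n, i ≠ j → ∃ g : G, g • I i = J i ∧ g • I j = J j) → ∃ g : G, ∀ i, g • I i = J i

/-- Conjugate subgroup. -/
def cj (g : G) (H : Subgroup G) : Subgroup G := H.map (MulAut.conj g).toMonoidHom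

theorem mem_cj {g : G} {H : Subgroup G} {x : G} : x ∈ cj g H ↔ g⁻¹ * x * g ∈ H := by
  constructor
  · rintro ⟨h, hh, rfl⟩
    simpa [mul_assoc] using hh
  · intro h
    exact ⟨_, h, by simp [mul_assoc]⟩

theorem cj_one (H : Subgroup G) : cj 1 H = H := by ext x; simp [mem_cj]

theorem cj_cj (a b : G) (H : Subgroup G) : cj a (cj b H) = cj (a * b) H := by
  ext x; simp [mem_cj, mul_assoc]

theorem card_cj (g : G) (H : Subgroup G) : Nat.card (cj g H) = Nat.card H :=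
  (Nat.card_congr (H.equivMapOfInjective _ (MulAut.conj g).injective).toEquiv).symm

theorem cj_eq_bot {g : G} {H : Subgroup G} : cj g H = ⊥ ↔ H = ⊥ :=
  Subgroup.map_eq_bot_iff_of_injective _ (MulAut.conj g).injective

theorem smul_mk_fix {H : Subgroup G} {g x : G} (h : g⁻¹ * x * g ∈ H) :
    x • (g : G ⧸ H) = (g : G ⧸ H) := by
  rw [MulAction.Quotient.smul_coe, smul_eq_mul, eq_comm, QuotientGroup.eq]
  rwa [← mul_assoc]

theorem fix_mem {H : Subgroup G} {g x : G} (h : x • (g : G ⧸ H) = (g : G ⧸ H)) :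
    g⁻¹ * x * g ∈ H := by
  rw [MulAction.Quotient.smul_coe, smul_eq_mul, eq_comm, QuotientGroup.eq] at h
  rwa [← mul_assoc] at h

/-- An intersection of finitely many conjugates. -/
def IsInt (H P : Subgroup G) : Prop :=
  ∃ s : Finset G, s.Nonempty ∧ ∀ x, x ∈ P ↔ ∀ g ∈ s, g⁻¹ * x * g ∈ H

theorem isInt_self (H : Subgroup G) : IsInt H H := ⟨{1}, by simp, fun x => by simp⟩

theorem IsInt.conj {H P : Subgroup G} (h : IsInt H P) (c : G) : IsInt H (cj c P) := by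
  classical
  obtain ⟨s, hs, hP⟩ := h
  refine ⟨s.image (c * ·), hs.image _, fun x => ?_⟩
  rw [mem_cj, hP, Finset.forall_mem_image]
  exact forall_congr' fun g => by simp [mul_assoc]

theorem isInt_cj (H : Subgroup G) (c : G) : IsInt H (cj c H) := (isInt_self H).conj c

theorem IsInt.inf {H P Q : Subgroup G} (hP : IsInt H P) (hQ : IsInt H Q) : IsInt H (P ⊓ Q) := by
  classical
  obtain ⟨s, hs, hP⟩ := hP
  obtain ⟨t, ht, hQ⟩ := hQ
  refine ⟨s ∪ t, hs.mono Finset.subset_union_left, fun x => ?_⟩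
  rw [Subgroup.mem_inf, hP, hQ, Finset.forall_mem_union]

theorem IsInt.exists_le {H P : Subgroup G} (h : IsInt H P) : ∃ g, P ≤ cj g H := by
  obtain ⟨s, ⟨g, hg⟩, hP⟩ := h
  exact ⟨g, fun x hx => mem_cj.mpr ((hP x).mp hx g hg)⟩

theorem IsInt.ne_top {H P : Subgroup G} (h : IsInt H P) (hH : H ≠ ⊤) : P ≠ ⊤ := by
  rintro rfl
  obtain ⟨g, hg⟩ := h.exists_le
  refine hH (eq_top_iff.mpr fun x _ => ?_)
  have := mem_cj.mp (hg (Subgroup.mem_top (g * x * g⁻¹)))
  simpa [mul_assoc] using this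

/-- In a binary action a factorisation across three intersections of conjugates splits. -/
theorem witness {H P0 P1 P2 : Subgroup G} (hB : Binary H) (h0 : IsInt H P0) (h1 : IsInt H P1)
    (h2 : IsInt H P2) {a b c : G} (ha : a ∈ P0) (hb : b ∈ P1) (hc : c ∈ P2) (e : a = b * c) :
    ∃ g ∈ P0 ⊓ P1, g⁻¹ * a ∈ P0 ⊓ P2 := by
  classical
  obtain ⟨s0, ⟨g0, hg0⟩, hP0⟩ := h0
  obtain ⟨s1, ⟨g1, hg1⟩, hP1⟩ := h1
  obtain ⟨s2, ⟨g2, hg2⟩, hP2⟩ := h2
  let ι := (↥s0 ⊕ ↥s1) ⊕ ↥s2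
  let ε : Fin (Fintype.card ι) ≃ ι := (Fintype.equivFin ι).symm
  let I : ι → G ⧸ H := Sum.elim (Sum.elim (fun g => (g.1 : G ⧸ H)) fun g => (g.1 : G ⧸ H))
    fun g => (g.1 : G ⧸ H)
  let J : ι → G ⧸ H := Sum.elim (Sum.elim (fun g => (g.1 : G ⧸ H)) fun g => (g.1 : G ⧸ H))
    fun g => a • (g.1 : G ⧸ H)
  have f0 : ∀ x ∈ P0, ∀ g : ↥s0, x • (g.1 : G ⧸ H) = (g.1 : G ⧸ H) := fun x hx g =>
    smul_mk_fix ((hP0 x).mp hx g.1 g.2)
  have f1 : ∀ x ∈ P1, ∀ g : ↥s1, x • (g.1 : G ⧸ H) = (g.1 : G ⧸ H) := fun x hx g =>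
    smul_mk_fix ((hP1 x).mp hx g.1 g.2)
  have f2 : ∀ x ∈ P2, ∀ g : ↥s2, x • (g.1 : G ⧸ H) = (g.1 : G ⧸ H) := fun x hx g =>
    smul_mk_fix ((hP2 x).mp hx g.1 g.2)
  have fb : ∀ g : ↥s2, b • (g.1 : G ⧸ H) = a • (g.1 : G ⧸ H) := fun g => by
    rw [e, mul_smul, f2 c hc g]
  have key : ∀ x y : ι, ∃ h : G, h • I x = J x ∧ h • I y = J y := by
    rintro ((x | x) | x) ((y | y) | y)
    · exact ⟨1, one_smul _ _, one_smul _ _⟩
    · exact ⟨1, one_smul _ _, one_smul _ _⟩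
    · exact ⟨a, f0 a ha x, rfl⟩
    · exact ⟨1, one_smul _ _, one_smul _ _⟩
    · exact ⟨1, one_smul _ _, one_smul _ _⟩
    · exact ⟨b, f1 b hb x, fb y⟩
    · exact ⟨a, rfl, f0 a ha y⟩
    · exact ⟨b, fb x, f1 b hb y⟩
    · exact ⟨a, rfl, rfl⟩
  have hn : 2 ≤ Fintype.card ι := by
    simp only [ι, Fintype.card_sum, Fintype.card_coe]
    have := Finset.card_pos.mpr ⟨g0, hg0⟩
    have := Finset.card_pos.mpr ⟨g1, hg1⟩
    omega
  obtain ⟨g, hg⟩ := hB _ (fun i => I (ε i)) (fun i => J (ε i)) hn fun i j _ => key _ _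
  have hall : ∀ x : ι, g • I x = J x := fun x => by simpa using hg (ε.symm x)
  have k0 : g ∈ P0 := (hP0 g).mpr fun x hx => fix_mem (hall (.inl (.inl ⟨x, hx⟩)))
  have k1 : g ∈ P1 := (hP1 g).mpr fun x hx => fix_mem (hall (.inl (.inr ⟨x, hx⟩)))
  refine ⟨g, ⟨k0, k1⟩, P0.mul_mem (P0.inv_mem k0) ha, (hP2 _).mpr fun x hx => fix_mem ?_⟩
  have := hall (.inr ⟨x, hx⟩)
  rw [mul_smul]
  rw [inv_smul_eq_iff]
  exact this.symm

/-- Binary actions are preserved by isomorphisms. -/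
theorem Binary.map {G' : Type*} [Group G'] {H : Subgroup G} (hB : Binary H) (e : G ≃* G') :
    Binary (H.map e.toMonoidHom) := by
  intro n I J hn hp
  choose a ha using fun i => QuotientGroup.mk_surjective (I i)
  choose b hb using fun i => QuotientGroup.mk_surjective (J i)
  have tr : ∀ (g : G') (x y : G'), g • (x : G' ⧸ H.map e.toMonoidHom) = (y : G' ⧸ H.map e.toMonoidHom) ↔
      e.symm g • (e.symm x : G ⧸ H) = (e.symm y : G ⧸ H) := by
    intro g x y
    rw [MulAction.Quotient.smul_coe, MulAction.Quotient.smul_coe, smul_eq_mul, smul_eq_mul,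
      QuotientGroup.eq, QuotientGroup.eq, Subgroup.mem_map_equiv]
    simp
  obtain ⟨g, hg⟩ := hB n (fun i => (e.symm (a i) : G ⧸ H)) (fun i => (e.symm (b i) : G ⧸ H)) hn
    fun i j hij => by
      obtain ⟨g, gi, gj⟩ := hp i j hij
      rw [← ha, ← hb, tr] at gi gj
      exact ⟨_, gi, gj⟩
  refine ⟨e g, fun i => ?_⟩
  rw [← ha, ← hb, tr, MulEquiv.symm_apply_apply]
  exact hg i

theorem Binary.cj {H : Subgroup G} (hB : Binary H) (g : G) : Binary (cj g H) := hB.map _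

theorem binary_bot : Binary (⊥ : Subgroup G) := by
  intro n I J hn hp
  have inj : ∀ (g g' : G) (x : G ⧸ (⊥ : Subgroup G)), g • x = g' • x → g = g' := by
    intro g g' x h
    obtain ⟨a, rfl⟩ := QuotientGroup.mk_surjective x
    rw [MulAction.Quotient.smul_coe, MulAction.Quotient.smul_coe, smul_eq_mul, smul_eq_mul,
      QuotientGroup.eq, Subgroup.mem_bot] at h
    exact mul_right_cancel (inv_mul_eq_one.mp h)
  let i0 : Fin n := ⟨0, by omega⟩
  obtain ⟨g, hg, -⟩ := hp i0 ⟨1, by omega⟩ (by simp [i0])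
  refine ⟨g, fun i => ?_⟩
  by_cases h : i = i0
  · rw [h, hg]
  · obtain ⟨g', g1, g2⟩ := hp i0 i (Ne.symm h)
    rw [inj g g' _ (hg.trans g1.symm), g2]

/-- A subgroup with trivial intersections of conjugates and no triangle gives a binary action. -/
theorem binary_of_TI {H : Subgroup G} (hTI : ∀ g, H ⊓ cj g H ≠ ⊥ → cj g H = H)
    (htri : ∀ g : G, ∀ x ∈ H, x ≠ 1 → ∀ y ∈ cj g H, y ≠ 1 → (∃ k, x * y ∈ cj k H) → cj g H = H) :
    Binary H := by
  intro n I J hn hp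
  let i0 : Fin n := ⟨0, by omega⟩
  choose a ha using fun i => QuotientGroup.mk_surjective (I i)
  obtain ⟨g0, hg0, -⟩ := hp i0 ⟨1, by omega⟩ (by simp [i0])
  have ex : ∀ i, ∃ h : G, h • I i0 = J i0 ∧ h • I i = J i := fun i => by
    by_cases h : i = i0
    · exact ⟨g0, hg0, by rw [h]; exact hg0⟩
    · exact hp i0 i (Ne.symm h)
  choose h h0 hi using ex
  set S : Fin n → Subgroup G := fun i => cj (a i) H with hS
  have mem : ∀ {i} {x y : G}, x • I i = y • I i → y⁻¹ * x ∈ S i := by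
    intro i x y hxy
    rw [hS]
    refine mem_cj.mpr (fix_mem ?_)
    rw [mul_smul, inv_smul_eq_iff, ha]
    exact hxy
  have fixI : ∀ {i} {x : G}, x ∈ S i → x • I i = I i := fun {i} {x} hx => by
    rw [← ha]; exact smul_mk_fix (mem_cj.mp hx)
  have h00 : ∀ i j, (h i)⁻¹ * h j ∈ S i0 := fun i j => mem ((h0 j).trans (h0 i).symm)
  -- two indices outside the class of `i0` give the same element
  have same : ∀ i j, S i ≠ S i0 → S j ≠ S i0 → (h j)⁻¹ * h i = 1 := by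
    intro i j hi' hj'
    have tiS : ∀ k, S k ≠ S i0 → ∀ x ∈ S i0, x ∈ S k → x = 1 := by
      intro k hk x x0 xk
      by_contra hx
      apply hk
      have hx' : (a i0)⁻¹ * x * a i0 ≠ 1 := fun e => hx (by
        simpa [mul_assoc] using congrArg (fun w => a i0 * w * (a i0)⁻¹) e)
      have := hTI ((a i0)⁻¹ * a k) fun e => hx' (Subgroup.mem_bot.mp (e ▸ ⟨mem_cj.mp x0, mem_cj.mpr (by
        simpa [mul_assoc] using mem_cj.mp xk)⟩))
      have h' := congrArg (cj (a i0)) this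
      rwa [cj_cj, mul_inv_cancel_left] at h'
    obtain ⟨g, gi, gj⟩ : ∃ g : G, g • I i = J i ∧ g • I j = J j := by
      by_cases e : i = j
      · exact ⟨h i, hi i, by rw [← e]; exact hi i⟩
      · exact hp i j e
    have si : g⁻¹ * h i ∈ S i := mem ((hi i).trans gi.symm)
    have sj : (h j)⁻¹ * g ∈ S j := mem (gj.trans (hi j).symm)
    set w := (h j)⁻¹ * h i with hw
    have w0 : w ∈ S i0 := h00 j i
    have ew : w = ((h j)⁻¹ * g) * (g⁻¹ * h i) := by rw [hw]; group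
    by_contra w1
    by_cases si1 : g⁻¹ * h i = 1
    · exact w1 (tiS j hj' w w0 (by rw [ew, si1, mul_one]; exact sj))
    -- move `S i0` to `H`
    have key := htri ((a i0)⁻¹ * a i) ((a i0)⁻¹ * w * a i0) (mem_cj.mp w0)
      (fun e => w1 (by simpa [mul_assoc] using congrArg (fun v => a i0 * v * (a i0)⁻¹) e))
      ((a i0)⁻¹ * (g⁻¹ * h i)⁻¹ * a i0) (mem_cj.mpr (by
        simpa [mul_assoc] using mem_cj.mp (inv_mem si)))
      (fun e => si1 (inv_eq_one.mp (by simpa [mul_assoc] using congrArg (fun v => a i0 * v * (a i0)⁻¹) e)))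
      ⟨(a i0)⁻¹ * a j, mem_cj.mpr (by
        have := mem_cj.mp sj
        rw [ew]
        simpa [mul_assoc] using this)⟩
    have h' := congrArg (cj (a i0)) key
    rw [cj_cj, mul_inv_cancel_left] at h'
    exact hi' h'
  have fix0 : ∀ i, S i = S i0 → ∀ g : G, g • I i0 = J i0 → g • I i = J i := by
    intro i e g hg
    have h1 : (h i)⁻¹ * g ∈ S i := e ▸ mem (hg.trans (h0 i).symm)
    have h2 := fixI h1
    rw [mul_smul, inv_smul_eq_iff] at h2
    rw [h2, hi]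
  by_cases hall : ∀ i, S i = S i0
  · exact ⟨g0, fun i => fix0 i (hall i) g0 hg0⟩
  · simp only [not_forall] at hall
    obtain ⟨i1, h1⟩ := hall
    refine ⟨h i1, fun i => ?_⟩
    by_cases e : S i = S i0
    · exact fix0 i e _ (h0 i1)
    · rw [← inv_mul_eq_one.mp (same i1 i h1 e), hi]

end CfsgLib.BinaryCosets
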