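/-
Subgroups of a Suzuki group containing the root group, and the count for their coset actions.
-/
import Cfsg.Agent.Lib.Suzuki.BinaryCosets.General
import Cfsg.Agent.Lib.Suzuki.Maximal
import Cfsg.Agent.Lib.Suzuki.Sylow
import Cfsg.Agent.Lib.Suzuki.Aut
import Cfsg.Agent.Lib.Suzuki.Fixed

set_option maxHeartbeats 1000000

namespace CfsgLib.Suzuki.BinarySz

open Cfsg CfsgLib.Suzuki CfsgLib.BinaryCosets

variable {F : Type*} [Field F] [Fintype F] {m : ℕ} (hF : Fintype.card F = 2 ^ (2 * m + 1))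

set_option quotPrecheck false in
local notation "𝔾" => ↥(Cfsg.Sz F m)

include hF

/-- First coordinates of the root elements of a subgroup. -/
def coords (H : Subgroup ↥(Cfsg.Sz F m)) : Set F := {a | ∃ b, uS hF a b ∈ H}

theorem coords_add {H : Subgroup 𝔾} {a a' : F} (h : a ∈ coords hF H) (h' : a' ∈ coords hF H) :
    a + a' ∈ coords hF H := by
  obtain ⟨b, hb⟩ := h
  obtain ⟨b', hb'⟩ := h'
  exact ⟨_, uS_mul hF a b a' b' ▸ H.mul_mem hb hb'⟩

theorem U_le_of_coords {H : Subgroup 𝔾} (h : ∀ a, a ∈ coords hF H) : U hF ≤ H := by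
  have hz : ∀ b, uS hF 0 b ∈ H := by
    intro b
    by_cases hb : b = 0
    · rw [hb, uS_zero]; exact H.one_mem
    obtain ⟨t, ht⟩ := th_mul_surj hF hb
    obtain ⟨d, hd⟩ := h t
    have := H.mul_mem hd hd
    rwa [uS_sq, ht] at this
  rintro _ ⟨a, b, rfl⟩
  obtain ⟨d, hd⟩ := h a
  have e : uS hF a b = uS hF a d * uS hF 0 (b + d) := by
    have h2 := two_eq_zero hF
    rw [uS_mul]
    congr 1
    · simp
    · linear_combination (-d) * h2
  rw [e]
  exact H.mul_mem hd (hz _)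

theorem cj_U_of_fix (hm : 1 ≤ m) {g : 𝔾} (hg : g • suzukiPointInfinity F = suzukiPointInfinity F) :
    cj g (U hF) = U hF := by
  have : g ∈ Subgroup.normalizer (U hF : Set 𝔾) := by rw [normalizer_U hF hm]; exact hg
  ext x
  rw [mem_cj]
  exact (Subgroup.mem_normalizer_iff''.mp this x).symm

theorem borel_Z (hm : 1 ≤ m) {g : 𝔾} (hg : g • suzukiPointInfinity F = suzukiPointInfinity F)
    {x : 𝔾} (hx : x ∈ Z hF) : g * x * g⁻¹ ∈ Z hF := by
  obtain ⟨r, s, t, rfl⟩ := (mem_stabInf_iff hF hm).mp hg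
  obtain ⟨b, rfl⟩ := hx
  exact ⟨_, conj_uS_zero hF r s t b⟩

/-- A proper subgroup containing the root group fixes infinity. -/
theorem fix_of_U_le (hm : 1 ≤ m) {K : Subgroup 𝔾} (hU : U hF ≤ K) (hK : K ≠ ⊤) :
    ∀ g ∈ K, g • suzukiPointInfinity F = suzukiPointInfinity F := by
  intro g hg
  rcases exists_closure_form hF hm g with ⟨a, b, t, rfl⟩ | ⟨a, b, c, d, t, rfl⟩
  · rw [mul_smul, smul_dS_inf, smul_uS_inf]
  exfalso
  set β := uS hF c d * dS hF t with hβ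
  have hg' : wS hF * β ∈ K := by
    have := K.mul_mem (K.inv_mem (hU ⟨a, b, rfl⟩)) hg
    rwa [show (uS hF a b)⁻¹ * (uS hF a b * wS hF * β) = wS hF * β by group] at this
  have hfix : β • suzukiPointInfinity F = suzukiPointInfinity F := by
    rw [hβ, mul_smul, smul_dS_inf, smul_uS_inf]
  set W := cj (wS hF) (U hF) with hW
  have hWK : W ≤ K := by
    intro x hx
    have h1 : β⁻¹ * (wS hF)⁻¹ * x * wS hF * β ∈ U hF := by
      have := (mem_cj.mp hx)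
      rw [← cj_U_of_fix hF hm hfix, mem_cj] at this
      simpa [mul_assoc] using this
    have h2 := K.mul_mem (K.mul_mem hg' (hU h1)) (K.inv_mem hg')
    rwa [show wS hF * β * (β⁻¹ * (wS hF)⁻¹ * x * wS hF * β) * (wS hF * β)⁻¹ = x by group] at h2
  set L := U hF ⊔ W with hL
  have hnorm : ∀ k : 𝔾, cj k (U hF) ≤ L → cj k W ≤ L → ∀ n ∈ L, k * n * k⁻¹ ∈ L := by
    intro k k1 k2 n hn
    have : cj k L ≤ L := by
      rw [hL, cj, Subgroup.map_sup]
      exact sup_le k1 k2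
    exact this (mem_cj.mpr (by rw [show k⁻¹ * (k * n * k⁻¹) * k = n by group]; exact hn))
  let N : Subgroup 𝔾 := Subgroup.normalizer (L : Set 𝔾)
  have inN : ∀ k : 𝔾, cj k (U hF) ≤ L → cj k W ≤ L → k ∈ N := by
    intro k k1 k2
    rw [Subgroup.mem_normalizer_iff]
    refine fun n => ⟨hnorm k k1 k2 n, fun h => ?_⟩
    have hsame : cj k L = L := Subgroup.eq_of_le_of_card_ge
      (fun x hx => by
        have := hnorm k k1 k2 _ (mem_cj.mp hx)
        rwa [show k * (k⁻¹ * x * k) * k⁻¹ = x by group] at this) (card_cj k L).ge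
    rw [← hsame, mem_cj] at h
    simpa [mul_assoc] using h
  have hu : ∀ a b, uS hF a b ∈ N := fun a b =>
    Subgroup.le_normalizer (le_sup_left (a := U hF) (b := W) ⟨a, b, rfl⟩)
  have hd : ∀ s, dS hF s ∈ N := fun s => by
    refine inN _ (by rw [cj_U_of_fix hF hm (smul_dS_inf hF s)]; exact le_sup_left) ?_
    rw [hW, cj_cj, show dS hF s * wS hF = wS hF * dS hF s⁻¹ by
      rw [← wS_dS hF s, ← mul_assoc, ← mul_assoc, wS_mul_self, one_mul],
      ← cj_cj, cj_U_of_fix hF hm (smul_dS_inf hF _)]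
    exact le_sup_right
  have hw : wS hF ∈ N := inN _ le_sup_right (by rw [hW, cj_cj, wS_mul_self, cj_one]; exact le_sup_left)
  have htop : N = ⊤ := eq_top_of_mem hF hm N hu hd hw
  haveI : L.Normal := Subgroup.normalizer_eq_top_iff.mp htop
  have := eq_top_of_uS_mem hF hm L fun a b => le_sup_left (a := U hF) (b := W) ⟨a, b, rfl⟩
  exact hK (eq_top_iff.mpr (this ▸ sup_le hU hWK))

/-- No proper overgroup of the root group has a binary coset action. -/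
theorem not_binary_of_U_le (hm : 1 ≤ m) {H : Subgroup 𝔾} (hU : U hF ≤ H) (hH : H ≠ ⊤) :
    ¬ Binary H := by
  classical
  intro hB
  have hfix := fix_of_U_le hF hm hU hH
  have hdec : ∀ g ∈ H, ∃ a b t, g = uS hF a b * dS hF t ∧ dS hF t ∈ H := by
    intro g hg
    obtain ⟨a, b, t, rfl⟩ := (mem_stabInf_iff hF hm).mp (hfix g hg)
    refine ⟨a, b, t, rfl, ?_⟩
    have := H.mul_mem (H.inv_mem (hU ⟨a, b, rfl⟩)) hg
    rwa [inv_mul_cancel_left] at this
  set K : Subgroup Fˣ := H.comap (dHomS hF) with hKdef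
  let φ : U hF × K → H := fun p => ⟨p.1.1 * dS hF p.2.1, H.mul_mem (hU p.1.2) p.2.2⟩
  have hφ : Function.Bijective φ := by
    constructor
    · rintro ⟨⟨_, a, b, rfl⟩, t⟩ ⟨⟨_, a', b', rfl⟩, t'⟩ h
      obtain ⟨rfl, rfl, h3⟩ := form_injective hF (congrArg Subtype.val h)
      exact Prod.ext rfl (Subtype.ext h3)
    · rintro ⟨g, hg⟩
      obtain ⟨a, b, t, rfl, ht⟩ := hdec g hg
      exact ⟨(⟨_, a, b, rfl⟩, ⟨t, ht⟩), rfl⟩
  set q := 2 ^ (2 * m + 1) with hq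
  have hHc : Nat.card H = q ^ 2 * Nat.card K := by
    rw [← Nat.card_congr (Equiv.ofBijective φ hφ), Nat.card_prod, card_U]
  have hKc : Nat.card K * K.index = q - 1 := by
    rw [K.card_mul_index, Nat.card_units, Nat.card_eq_fintype_card, hF]
  have hN : H.index = (q ^ 2 + 1) * K.index := by
    have h1 := H.card_mul_index
    rw [card_Sz hF hm, hHc, ← hq, ← hKc] at h1
    have hpos : 0 < q ^ 2 * Nat.card K := Nat.mul_pos (by positivity) Nat.card_pos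
    apply Nat.eq_of_mul_eq_mul_left hpos
    rw [h1]; ring
  -- representatives of the orbits on pairs
  let rep : Bool × (Fˣ ⧸ K) → 𝔾 ⧸ H := fun p =>
    if p.1 then ((wS hF * dS hF p.2.out : 𝔾) : 𝔾 ⧸ H) else ((dS hF p.2.out : 𝔾) : 𝔾 ⧸ H)
  have hout : ∀ t : Fˣ, ((dS hF t : 𝔾) : 𝔾 ⧸ H) = ((dS hF (t : Fˣ ⧸ K).out : 𝔾) : 𝔾 ⧸ H) := by
    intro t
    rw [QuotientGroup.eq, dS_inv, dS_mul]
    exact (QuotientGroup.eq.mp (QuotientGroup.out_eq' (t : Fˣ ⧸ K)).symm : t⁻¹ * _ ∈ K)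
  have hfixU : ∀ a b, uS hF a b • ((1 : 𝔾) : 𝔾 ⧸ H) = ((1 : 𝔾) : 𝔾 ⧸ H) := fun a b =>
    smul_mk_fix (by simpa using hU ⟨a, b, rfl⟩)
  have hpair : ∀ x y : 𝔾 ⧸ H, ∃ (g : 𝔾) (γ : Bool × (Fˣ ⧸ K)),
      g • x = ((1 : 𝔾) : 𝔾 ⧸ H) ∧ g • y = rep γ := by
    intro x y
    obtain ⟨a, rfl⟩ := QuotientGroup.mk_surjective x
    obtain ⟨c, rfl⟩ := QuotientGroup.mk_surjective y
    have ha : a⁻¹ • (a : 𝔾 ⧸ H) = ((1 : 𝔾) : 𝔾 ⧸ H) := by
      rw [MulAction.Quotient.smul_coe, smul_eq_mul, inv_mul_cancel]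
    rcases exists_closure_form hF hm (a⁻¹ * c) with ⟨r, s, t, h⟩ | ⟨r, s, c', d', t, h⟩
    · refine ⟨(uS hF r s)⁻¹ * a⁻¹, (false, (t : Fˣ ⧸ K)), ?_, ?_⟩
      · rw [mul_smul, ha, inv_smul_eq_iff, hfixU]
      · show _ = ((dS hF _ : 𝔾) : 𝔾 ⧸ H)
        rw [← hout, MulAction.Quotient.smul_coe, smul_eq_mul, mul_assoc, h, inv_mul_cancel_left]
    · refine ⟨(uS hF r s)⁻¹ * a⁻¹, (true, (t : Fˣ ⧸ K)), ?_, ?_⟩
      · rw [mul_smul, ha, inv_smul_eq_iff, hfixU]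
      · show _ = ((wS hF * dS hF _ : 𝔾) : 𝔾 ⧸ H)
        have e2 : (((wS hF) * (uS hF c' d' * dS hF t) : 𝔾) : 𝔾 ⧸ H) = ((wS hF * dS hF t : 𝔾) : 𝔾 ⧸ H) := by
          rw [QuotientGroup.eq]
          refine hU ?_
          have := mem_cj.mp ((cj_U_of_fix hF hm (smul_dS_inf hF t)).symm.le
            ((U hF).inv_mem (⟨c', d', rfl⟩ : uS hF c' d' ∈ U hF)))
          simpa [mul_assoc] using this
        rw [MulAction.Quotient.smul_coe, smul_eq_mul, mul_assoc, h, mul_assoc, inv_mul_cancel_left, e2]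
        exact congrArg (fun z => wS hF • z) (hout t)
  choose g γ hg1 hg2 using hpair
  let Ψ : (Fin 3 → 𝔾 ⧸ H) → (Bool × (Fˣ ⧸ K)) × (Bool × (Fˣ ⧸ K)) × (Bool × (Fˣ ⧸ K)) := fun x =>
    (γ (x 0) (x 1), γ (x 0) (x 2), γ (x 1) (x 2))
  have hsame : ∀ x y, Ψ x = Ψ y → ∃ h : 𝔾, ∀ i, h • x i = y i := by
    intro x y hxy
    simp only [Ψ, Prod.mk.injEq] at hxy
    obtain ⟨e01, e02, e12⟩ := hxy
    have mk : ∀ p p' r r', γ p p' = γ r r' → ∃ h : 𝔾, h • p = r ∧ h • p' = r' := fun p p' r r' e =>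
      ⟨(g r r')⁻¹ * g p p', by rw [mul_smul, hg1, inv_smul_eq_iff, hg1],
        by rw [mul_smul, hg2, inv_smul_eq_iff, hg2, e]⟩
    refine hB 3 x y (by norm_num) fun i j hij => ?_
    obtain ⟨a, a0, a1⟩ := mk _ _ _ _ e01
    obtain ⟨b, b0, b2⟩ := mk _ _ _ _ e02
    obtain ⟨c, c1, c2⟩ := mk _ _ _ _ e12
    fin_cases i <;> fin_cases j
    · exact absurd rfl hij
    · exact ⟨a, a0, a1⟩
    · exact ⟨b, b0, b2⟩
    · exact ⟨a, a1, a0⟩
    · exact absurd rfl hij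
    · exact ⟨c, c1, c2⟩
    · exact ⟨b, b2, b0⟩
    · exact ⟨c, c2, c1⟩
    · exact absurd rfl hij
  let pick := fun p => Function.invFun Ψ p
  have hpick : ∀ x, Ψ (pick (Ψ x)) = Ψ x := fun x => Function.invFun_eq ⟨x, rfl⟩
  choose k hk using fun x => hsame _ _ (hpick x)
  have hinj : Function.Injective fun x => (Ψ x, k x) := by
    intro x y h
    obtain ⟨h1, h2⟩ := Prod.mk.injEq _ _ _ _ ▸ h
    funext i
    rw [← hk x i, ← hk y i, h1, h2]
  have hle := Nat.card_le_card_of_injective _ hinj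
  simp only [Nat.card_prod, Nat.card_fun, Nat.card_fin] at hle
  rw [Nat.card_eq_fintype_card (α := Bool), Fintype.card_bool, ← Subgroup.index_eq_card, ← Subgroup.index_eq_card, hN, card_Sz hF hm, ← hq] at hle
  set d := K.index
  have hd : 0 < d := Nat.pos_of_ne_zero Subgroup.index_ne_zero_of_finite
  have hq8 : 8 ≤ q := hF ▸ four_le_card hF hm
  have h1 : (q ^ 2 + 1) ^ 3 * d ^ 3 ≤ 8 * (q ^ 2 * (q ^ 2 + 1) * (q - 1)) * d ^ 3 := by
    calc _ = ((q ^ 2 + 1) * d) ^ 3 := by ring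
      _ ≤ _ := hle
      _ = _ := by ring
  have h2 : (q ^ 2 + 1) ^ 3 ≤ 8 * (q ^ 2 * (q ^ 2 + 1) * (q - 1)) := Nat.le_of_mul_le_mul_right h1 (by positivity)
  have h3 : (q ^ 2 + 1) ^ 2 ≤ 8 * (q ^ 2 * (q - 1)) := by
    by_contra hlt
    push Not at hlt
    have := Nat.mul_lt_mul_of_pos_left hlt (show 0 < q ^ 2 + 1 by positivity)
    linarith
  have h4 : 8 * (q ^ 2 * (q - 1)) ≤ q * (q ^ 2 * q) :=
    Nat.mul_le_mul hq8 (Nat.mul_le_mul_left _ (Nat.sub_le q 1))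
  nlinarith

end CfsgLib.Suzuki.BinarySz
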