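/-
Minimal intersections of conjugates of the stabiliser of a binary action of a Suzuki group.
-/
import Cfsg.Agent.Lib.Suzuki.BinaryCosets.Borel
import Cfsg.Agent.Lib.Suzuki.ClassSquares.Unipotent

set_option maxHeartbeats 1000000

namespace CfsgLib.Suzuki.BinarySz

open Cfsg CfsgLib.Suzuki CfsgLib.BinaryCosets

/-- A minimal non-trivial intersection of conjugates. -/
def IsMin {G : Type*} [Group G] (H M : Subgroup G) : Prop :=
  IsInt H M ∧ M ≠ ⊥ ∧ ∀ P, IsInt H P → P ≤ M → P ≠ ⊥ → P = M

theorem exists_min {G : Type*} [Group G] [Finite G] {H : Subgroup G} (hH : H ≠ ⊥) : ∃ M, IsMin H M := by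
  obtain ⟨M, ⟨h1, h2⟩, hmin⟩ := Set.exists_min_image {P : Subgroup G | IsInt H P ∧ P ≠ ⊥}
    (fun P => Nat.card P) (Set.toFinite _) ⟨H, isInt_self H, hH⟩
  exact ⟨M, h1, h2, fun P p1 p2 p3 => Subgroup.eq_of_le_of_card_ge p2 (hmin P ⟨p1, p3⟩)⟩

theorem IsMin.conj {G : Type*} [Group G] {H M : Subgroup G} (h : IsMin H M) (g : G) :
    IsMin H (cj g M) := by
  refine ⟨h.1.conj g, fun e => h.2.1 (cj_eq_bot.mp e), fun P p1 p2 p3 => ?_⟩
  have := h.2.2 (cj g⁻¹ P) (p1.conj _) (fun x hx => by
    have := mem_cj.mp (p2 (mem_cj.mp hx))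
    simpa [mul_assoc] using this) (fun e => p3 (cj_eq_bot.mp e))
  rw [← this, cj_cj, mul_inv_cancel, cj_one]

theorem IsMin.ti {G : Type*} [Group G] [Finite G] {H M : Subgroup G} (h : IsMin H M) {g : G}
    (hne : M ⊓ cj g M ≠ ⊥) : cj g M = M := by
  have e := h.2.2 _ (h.1.inf (h.1.conj g)) inf_le_left hne
  exact (Subgroup.eq_of_le_of_card_ge (e.ge.trans inf_le_right) (card_cj g M).le).symm

theorem IsMin.ne_top {G : Type*} [Group G] {H M : Subgroup G} (h : IsMin H M) (hH : H ≠ ⊤) : M ≠ ⊤ :=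
  h.1.ne_top hH

/-- No triangle across conjugates of a minimal intersection. -/
theorem IsMin.no_triangle {G : Type*} [Group G] [Finite G] {H M : Subgroup G} (h : IsMin H M)
    (hB : Binary H) {a b c g k : G} (ha : a ∈ M) (ha1 : a ≠ 1) (hb : b ∈ cj g M) (hc : c ∈ cj k M)
    (e : a = b * c) : b ∈ M := by
  by_contra hbM
  have h1 : M ⊓ cj g M = ⊥ := by
    by_contra hne
    exact hbM (h.ti hne ▸ hb)
  have h2 : M ⊓ cj k M = ⊥ := by
    by_contra hne
    refine hbM ?_
    rw [show b = a * c⁻¹ by rw [e, mul_inv_cancel_right]]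
    exact M.mul_mem ha (M.inv_mem (h.ti hne ▸ hc))
  obtain ⟨x, hx, hx'⟩ := witness hB h.1 (h.1.conj g) (h.1.conj k) ha hb hc e
  rw [h1, Subgroup.mem_bot] at hx
  rw [h2, Subgroup.mem_bot, hx, inv_one, one_mul] at hx'
  exact ha1 hx'

variable {F : Type*} [Field F] [Fintype F] {m : ℕ} (hF : Fintype.card F = 2 ^ (2 * m + 1))

set_option quotPrecheck false in
local notation "𝔾" => ↥(Cfsg.Sz F m)

include hF

/-- A minimal intersection containing a central root involution gives the centre or an overgroup of the root group. -/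
theorem min_even (hm : 1 ≤ m) {H M : Subgroup 𝔾} (hB : Binary H) (hH : H ≠ ⊤) (hM : IsMin H M)
    {z : 𝔾} (hzM : z ∈ M) (hz : z ∈ Z hF) (hz1 : z ≠ 1) :
    M = Z hF ∨ U hF ≤ M := by
  classical
  obtain ⟨z0, rfl⟩ := hz
  have hnorm : ∀ u ∈ U hF, cj u M = M := by
    rintro _ ⟨r, s, rfl⟩
    refine hM.ti fun e => hz1 (Subgroup.mem_bot.mp (e ▸ ⟨hzM, mem_cj.mpr ?_⟩))
    rwa [uS_inv, show uS hF r (s + th m r * r) * uS hF 0 z0 * uS hF r s = uS hF 0 z0 by
      have h2 := two_eq_zero hF
      rw [uS_mul, uS_mul]; congr 1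
      · simp; linear_combination r * h2
      · simp; linear_combination (s + th m r * r) * h2]
  have hconj : ∀ u ∈ U hF, ∀ x ∈ M, u * x * u⁻¹ ∈ M := fun u hu x hx => by
    rw [← hnorm u hu]
    exact mem_cj.mpr (by simpa [mul_assoc] using hx)
  have hfixM : ∀ g ∈ M, g • suzukiPointInfinity F = suzukiPointInfinity F := by
    have hN : Subgroup.normalizer (M : Set 𝔾) ≠ ⊤ := by
      intro e
      haveI : M.Normal := Subgroup.normalizer_eq_top_iff.mp e
      haveI := isSimple hF hm
      rcases Subgroup.Normal.eq_bot_or_eq_top (H := M) inferInstance with h | h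
      · exact hM.2.1 h
      · exact hM.ne_top hH h
    refine fun g hg => fix_of_U_le hF hm (fun u hu => ?_) hN g (Subgroup.le_normalizer hg)
    rw [Subgroup.mem_normalizer_iff]
    exact fun x => ⟨hconj u hu x, fun h => by
      simpa [mul_assoc] using hconj u⁻¹ ((U hF).inv_mem hu) _ h⟩
  have h2 := two_eq_zero hF
  by_cases hsplit : ∀ g ∈ M, g ∈ U hF
  swap
  · -- an element outside the root group
    right
    simp only [not_forall] at hsplit
    obtain ⟨g, hg, hgU⟩ := hsplit
    obtain ⟨a, b, t, rfl⟩ := (mem_stabInf_iff hF hm).mp (hfixM g hg)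
    have ht : t ≠ 1 := fun e => hgU ⟨a, b, by rw [e, dS_one, mul_one]⟩
    have hs : 1 + th m (t : F) ≠ 0 := by
      rw [← sub_eq hF, sub_ne_zero, ← th_one (F := F) (m := m)]
      exact fun h => ht (Units.ext (th_injective hF h).symm)
    refine U_le_of_coords hF fun α => ?_
    set γ := α / (1 + th m (t : F))
    have h1 := M.mul_mem (hconj (uS hF γ 0) ⟨γ, 0, rfl⟩ _ hg) (M.inv_mem hg)
    have e : uS hF γ 0 * (uS hF a b * dS hF t) * (uS hF γ 0)⁻¹ * (uS hF a b * dS hF t)⁻¹ =
        uS hF γ 0 * ((uS hF a b * dS hF t) * (uS hF γ 0)⁻¹ * (uS hF a b * dS hF t)⁻¹) := by group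
    rw [e, uS_inv, conj_uS, uS_mul] at h1
    refine ⟨_, (?_ : γ + th m (t : F) * γ = α) ▸ h1⟩
    rw [show γ + th m (t : F) * γ = γ * (1 + th m (t : F)) by ring, div_mul_cancel₀ _ hs]
  by_cases hZ : ∀ g ∈ M, g ∈ Z hF
  · -- inside the centre
    left
    have hz0 : z0 ≠ 0 := fun e => hz1 (by rw [e, uS_zero])
    have inv : ∀ t : Fˣ, cj (dS hF t) M = M := by
      intro t
      by_contra hne
      set r := th m (t : F) * (t : F) ^ 2 with hr
      have hσ : 1 + r ≠ 0 := by
        intro h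
        rw [← sub_eq hF, sub_eq_zero] at h
        refine hne ?_
        rw [show t = 1 from Units.ext (eq_one_of_th_sq hF h.symm), dS_one, cj_one]
      obtain ⟨t', ht'⟩ := th_sq_surj hF (m := m) hσ
      have hb : dS hF t * uS hF 0 z0 * (dS hF t)⁻¹ ∈ cj (dS hF t) M :=
        mem_cj.mpr (by simpa [mul_assoc] using hzM)
      have hc : dS hF t' * uS hF 0 z0 * (dS hF t')⁻¹ ∈ cj (dS hF t') M :=
        mem_cj.mpr (by simpa [mul_assoc] using hzM)
      have hbM := hM.no_triangle hB hzM hz1 hb hc (by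
        rw [dS_uS, dS_uS, uS_mul, ht', ← hr]
        congr 1
        · simp
        · simp; linear_combination (-(r * z0)) * h2)
      refine hne (hM.ti fun e => ?_)
      have h1 := Subgroup.mem_bot.mp (e.le ⟨hbM, hb⟩)
      exact hz1 (by simpa [mul_assoc] using congrArg (fun w => (dS hF t)⁻¹ * w * dS hF t) h1)
    refine le_antisymm hZ fun x hx => ?_
    obtain ⟨b, rfl⟩ := hx
    by_cases hb : b = 0
    · rw [hb, uS_zero]; exact M.one_mem
    obtain ⟨t, ht⟩ := th_sq_surj hF (m := m) (div_ne_zero hb hz0)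
    have h1 : dS hF t * uS hF 0 z0 * (dS hF t)⁻¹ ∈ cj (dS hF t) M :=
      mem_cj.mpr (by simpa [mul_assoc] using hzM)
    rwa [inv t, dS_uS, mul_zero, ht, div_mul_cancel₀ _ hz0] at h1
  · right
    simp only [not_forall] at hZ
    obtain ⟨y, hy, hyZ⟩ := hZ
    obtain ⟨α, β, rfl⟩ := hsplit y hy
    have hα : α ≠ 0 := fun e => hyZ ⟨β, by rw [e]⟩
    set L := ClassSquares.L hF α with hL
    have hD : ∀ v ∈ L.range, uS hF 0 v ∈ M := by
      rintro v ⟨r, rfl⟩
      have h1 := M.mul_mem (hconj (uS hF r 0) ⟨r, 0, rfl⟩ _ hy) (M.inv_mem hy)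
      rw [uS_conj_uS, uS_inv, uS_mul] at h1
      convert h1 using 2
      · linear_combination (-α) * h2
      · rw [hL, ClassSquares.L_def]; linear_combination (-(β + th m α * α)) * h2
    have hcard : 2 * Nat.card L.range = Fintype.card F := by
      rw [← ClassSquares.card_ker_range hF]
      congr 1
      have hne : th m α * α ≠ 0 := mul_ne_zero (fun h => hα (th_eq_zero_iff.mp h)) hα
      refine Nat.card_congr
        { toFun := fun v => ⟨v.1 / (th m α * α), by
            obtain ⟨r, hr⟩ := v.2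
            refine ⟨r / α, ?_⟩
            rw [← hr, eq_div_iff hne, mul_comm, ← ClassSquares.L_scale, mul_div_cancel₀ _ hα]⟩
          invFun := fun v => ⟨th m α * α * v.1, by
            obtain ⟨s, hs⟩ := v.2
            exact ⟨α * s, by rw [← hs, ← ClassSquares.L_scale]⟩⟩
          left_inv := fun v => Subtype.ext (mul_div_cancel₀ _ hne)
          right_inv := fun v => Subtype.ext (mul_div_cancel_left₀ _ hne) }
    have inv : ∀ t : Fˣ, cj (dS hF t) M = M := by
      intro t
      refine hM.ti fun e => ?_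
      set r := th m (t : F) * (t : F) ^ 2
      have hlt : Fintype.card F < Nat.card (L.range × L.range) := by
        have : 8 ≤ Fintype.card F := four_le_card hF hm
        rw [Nat.card_prod]
        nlinarith
      have hninj : ¬ Function.Injective fun p : L.range × L.range => (p.1 : F) + r * (p.2 : F) := fun hi => by
        have := Nat.card_le_card_of_injective _ hi
        rw [Nat.card_eq_fintype_card (α := F)] at this
        omega
      rw [Function.not_injective_iff] at hninj
      obtain ⟨p, p', hp, hne⟩ := hninj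
      have hp' : (p.1 : F) + r * p.2 = p'.1 + r * p'.2 := hp
      have hv : ((p.1 - p'.1 : L.range) : F) = r * ((p'.2 - p.2 : L.range) : F) := by
        push_cast; linear_combination hp'
      set v := p.1 - p'.1
      set v' := p'.2 - p.2
      have hv0 : (v : F) ≠ 0 := by
        intro h0
        have hv0' : (v' : F) = 0 := by
          rw [h0] at hv
          exact (mul_eq_zero.mp hv.symm).resolve_left
            (mul_ne_zero (fun h => t.ne_zero (th_eq_zero_iff.mp h)) (pow_ne_zero _ t.ne_zero))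
        exact hne (Prod.ext (sub_eq_zero.mp (Subtype.ext h0 : v = 0))
          (sub_eq_zero.mp (Subtype.ext hv0' : v' = 0)).symm)
      have h1 : uS hF 0 (v : F) ∈ cj (dS hF t) M := by
        have := mem_cj.mpr (show (dS hF t)⁻¹ * (dS hF t * uS hF 0 (v' : F) * (dS hF t)⁻¹) * dS hF t ∈ M by
          simpa [mul_assoc] using hD _ v'.2)
        rwa [dS_uS, mul_zero, ← hv] at this
      exact hv0 (uS_inj hF ((Subgroup.mem_bot.mp (e.le ⟨hD _ v.2, h1⟩)).trans (uS_zero hF).symm)).2
    refine U_le_of_coords hF fun a => ?_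
    by_cases ha : a = 0
    · exact ⟨0, by rw [ha, uS_zero]; exact M.one_mem⟩
    obtain ⟨t, ht⟩ := (th_bijective hF).2 (a / α)
    have t0 : t ≠ 0 := by rintro rfl; rw [th_zero] at ht; exact div_ne_zero ha hα ht.symm
    have h1 : dS hF (Units.mk0 t t0) * uS hF α β * (dS hF (Units.mk0 t t0))⁻¹ ∈ M := by
      rw [← inv (Units.mk0 t t0)]
      exact mem_cj.mpr (by simpa [mul_assoc] using hy)
    rw [dS_uS] at h1
    exact ⟨_, (show th m t * α = a by rw [ht, div_mul_cancel₀ _ hα]) ▸ h1⟩

end CfsgLib.Suzuki.BinarySz
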