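/-
A binary stabiliser containing the centre of a root group equals it.
-/
import Cfsg.Agent.Lib.Suzuki.BinaryCosets.Minimal
import Cfsg.Agent.Lib.Suzuki.Subgroups

set_option maxHeartbeats 1000000

namespace CfsgLib.Suzuki.BinarySz

open Cfsg CfsgLib.Suzuki CfsgLib.BinaryCosets

variable {F : Type*} [Field F] [Fintype F] {m : ℕ} (hF : Fintype.card F = 2 ^ (2 * m + 1))

set_option quotPrecheck false in
local notation "𝔾" => ↥(Cfsg.Sz F m)

include hF

theorem no_U (hm : 1 ≤ m) {H : Subgroup 𝔾} (hB : Binary H) (hH : H ≠ ⊤) (g : 𝔾) : ¬ U hF ≤ cj g H := by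
  intro h
  refine not_binary_of_U_le hF hm h (fun e => ?_) (hB.cj g)
  exact hH (Subgroup.eq_top_of_card_eq _ (by rw [← card_cj g H, e, Subgroup.card_top]))

theorem fix_of_Z_le (hm : 1 ≤ m) {H : Subgroup 𝔾} (hH : H ≠ ⊤) (hZ : Z hF ≤ H) :
    ∀ g ∈ H, g • suzukiPointInfinity F = suzukiPointInfinity F := by
  classical
  have hz1 : uS hF (0 : F) 1 ≠ 1 := fun e => one_ne_zero ((eq_one_iff_uS hF).mp e).2
  rcases trichotomy hF hm H with ⟨p, hp, hfix⟩ | ⟨z, hz, hle⟩ | ⟨k, g, hk, hdiv, heq⟩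
  · have := fix_unique hF ⟨0, 1, rfl⟩ hz1 hp (hfix _ (hZ ⟨1, rfl⟩))
    subst this
    exact hfix
  · exfalso
    obtain ⟨c, hc, -, -, hN⟩ := ss_data hF hm hz
    set C := Subgroup.centralizer ({z} : Set 𝔾)
    set N := Subgroup.normalizer (C : Set 𝔾)
    let f : Z hF → N ⧸ C.subgroupOf N := fun x => QuotientGroup.mk ⟨x.1, hle (hZ x.2)⟩
    have hf : Function.Injective f := by
      intro x y hxy
      have h0' : (⟨x.1, hle (hZ x.2)⟩ : N)⁻¹ * ⟨y.1, hle (hZ y.2)⟩ ∈ C.subgroupOf N := QuotientGroup.eq.mp hxy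
      have h0 : (x⁻¹ * y : Z hF).1 ∈ C := h0'
      by_contra hne
      have h1 : (x⁻¹ * y : Z hF).1 ≠ 1 := fun e => hne (inv_mul_eq_one.mp (Subtype.ext e))
      obtain ⟨b, hb⟩ := (x⁻¹ * y : Z hF).2
      refine (ss_centralizer_eq hF hm hz h0 h1).1.2 ⟨h1, 1, ?_⟩
      rw [inv_one, one_mul, mul_one, hb]
      exact ⟨0, b, rfl⟩
    have h1 := Nat.card_le_card_of_injective f hf
    rw [← Subgroup.index_eq_card, card_Z] at h1
    have h2 := (C.subgroupOf N).card_mul_index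
    rw [Nat.card_congr (Subgroup.subgroupOfEquivOfLe Subgroup.le_normalizer).toEquiv, hN,
      mul_comm c] at h2
    have := Nat.eq_of_mul_eq_mul_left Nat.card_pos h2
    have : 8 ≤ Fintype.card F := four_le_card hF hm
    omega
  · exfalso
    have hlt := subfield_lt hF hm hH hdiv heq
    have h1 := Subgroup.card_dvd_of_le hZ
    rw [card_Z, heq, card_map_conj, card_subGp hF hm hk hdiv, mul_assoc] at h1
    set q0 := 2 ^ (2 * k + 1) with hq0
    have he : 2 ∣ q0 := dvd_pow_self 2 (by omega)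
    have hodd : ¬ 2 ∣ (q0 ^ 2 + 1) * (q0 - 1) := by
      rw [Nat.prime_two.dvd_mul]
      have : 2 ∣ q0 ^ 2 := dvd_pow he (by norm_num)
      have : 1 ≤ q0 := Nat.one_le_two_pow
      omega
    have h2 := ((Nat.prime_two.coprime_iff_not_dvd.mpr hodd).pow_left (2 * m + 1)).dvd_of_dvd_mul_right h1
    rw [hq0, ← pow_mul, Nat.pow_dvd_pow_iff_le_right (by norm_num)] at h2
    obtain ⟨e, he'⟩ := hdiv
    have h3 : 3 ≤ e := by
      by_contra hlt3
      have : e = 0 ∨ e = 1 ∨ e = 2 := by omega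
      rcases this with rfl | rfl | rfl <;> omega
    nlinarith

theorem eq_Z_of_Z_le (hm : 1 ≤ m) {H : Subgroup 𝔾} (hB : Binary H) (hH : H ≠ ⊤) (hZ : Z hF ≤ H) :
    H = Z hF := by
  classical
  have h2 := two_eq_zero hF
  have hfix := fix_of_Z_le hF hm hH hZ
  by_cases hall : ∀ g ∈ H, g ∈ U hF
  swap
  · exfalso
    simp only [not_forall] at hall
    obtain ⟨g, hg, hgU⟩ := hall
    obtain ⟨a, b, t, rfl⟩ := (mem_stabInf_iff hF hm).mp (hfix g hg)
    have ht : t ≠ 1 := fun e => hgU ⟨a, b, by rw [e, dS_one, mul_one]⟩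
    obtain ⟨c0, d0, hcd⟩ := exists_conj_torus hF hm a b ht
    set κ := (uS hF c0 d0)⁻¹
    set H' := cj κ H with hH'
    have hx : dS hF t ∈ H' := by
      rw [hH', mem_cj, inv_inv]
      rwa [← hcd] at hg
    have hfix' : ∀ g ∈ H', g • suzukiPointInfinity F = suzukiPointInfinity F := by
      intro g hg
      have hκ : (uS hF c0 d0) • suzukiPointInfinity F = suzukiPointInfinity F := smul_uS_inf hF _ _
      have := hfix _ (mem_cj.mp hg)
      rw [inv_inv, mul_smul, mul_smul, inv_smul_eq_iff.mpr hκ.symm] at this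
      exact smul_left_cancel _ (this.trans hκ.symm)
    have hU' : ¬ U hF ≤ H' := no_U hF hm hB hH κ
    obtain ⟨α, hα⟩ : ∃ α, α ∉ coords hF H' := by
      by_contra hn
      simp only [not_exists, not_not] at hn
      exact hU' (U_le_of_coords hF hn)
    set τ := th m (t : F) with hτ
    have hτ0 : τ ≠ 0 := fun h => t.ne_zero (th_eq_zero_iff.mp h)
    set v1 := α / τ with hv1
    have hv1W : v1 ∉ coords hF H' := by
      rintro ⟨e, he⟩
      apply hα
      have := H'.mul_mem (H'.mul_mem hx he) (H'.inv_mem hx)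
      rw [dS_uS, hv1, ← hτ, mul_div_cancel₀ _ hτ0] at this
      exact ⟨_, this⟩
    -- the key: intersections with conjugates stay inside the root group
    have key : ∀ (ρ ω : F), ρ ∉ coords hF H' → ∀ h ∈ H' ⊓ cj (uS hF ρ ω) H', h ∈ U hF := by
      rintro ρ ω hρ h ⟨h1, h2'⟩
      obtain ⟨r, s, σ, rfl⟩ := (mem_stabInf_iff hF hm).mp (hfix' h h1)
      by_contra hU
      have hσ : σ ≠ 1 := fun e => hU ⟨r, s, by rw [e, dS_one, mul_one]⟩
      have hs : 1 + th m (σ : F) ≠ 0 := by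
        rw [← sub_eq hF, sub_ne_zero, ← th_one (F := F) (m := m)]
        exact fun h => hσ (Units.ext (th_injective hF h).symm)
      have h3 := H'.mul_mem (mem_cj.mp h2') (H'.inv_mem h1)
      rw [show (uS hF ρ ω)⁻¹ * (uS hF r s * dS hF σ) * uS hF ρ ω * (uS hF r s * dS hF σ)⁻¹ =
          (uS hF ρ ω)⁻¹ * ((uS hF r s * dS hF σ) * uS hF ρ ω * (uS hF r s * dS hF σ)⁻¹) by group,
        uS_inv, conj_uS, uS_mul] at h3
      have hc : (1 + th m (σ : F)) * ρ ∈ coords hF H' :=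
        ⟨_, (show ρ + th m (σ : F) * ρ = (1 + th m (σ : F)) * ρ by ring) ▸ h3⟩
      have hmap : ∀ w ∈ coords hF H', (1 + th m (σ : F)) * w ∈ coords hF H' := by
        rintro w ⟨e, he⟩
        rw [add_mul, one_mul]
        refine coords_add hF ⟨e, he⟩ ?_
        have := H'.mul_mem (H'.mul_mem h1 he) (H'.inv_mem h1)
        rw [conj_uS] at this
        exact ⟨_, this⟩
      let f : coords hF H' → coords hF H' := fun w => ⟨_, hmap w.1 w.2⟩
      have hf : Function.Injective f := fun w w' h =>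
        Subtype.ext (mul_left_cancel₀ hs (congrArg Subtype.val h))
      obtain ⟨w, hw⟩ := (Finite.injective_iff_bijective.mp hf).2 ⟨_, hc⟩
      exact hρ (mul_left_cancel₀ hs (congrArg Subtype.val hw) ▸ w.2)
    set x := dS hF t
    set u := uS hF α 0
    have e1 : ∃ e, (u * x * u⁻¹)⁻¹ * (x * x) = uS hF (α + th m ((t⁻¹ : Fˣ) : F) * α) e * x := by
      refine ⟨?_, ?_⟩
      rotate_left
      rw [show (u * x * u⁻¹)⁻¹ * (x * x) = u * (x⁻¹ * u⁻¹ * (x⁻¹)⁻¹) * x by group, dS_inv, uS_inv, dS_uS, uS_mul]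
    obtain ⟨e, he⟩ := e1
    obtain ⟨v1', v2', hv⟩ := exists_conj_torus hF hm (α + th m ((t⁻¹ : Fˣ) : F) * α) e ht
    have hv' : v1' = v1 := by
      have hv2 := hv
      rw [uS_inv, mul_assoc, dS_mul_uS, ← mul_assoc, uS_mul] at hv2
      obtain ⟨h1, -, -⟩ := form_injective hF hv2
      have hinv : th m ((t⁻¹ : Fˣ) : F) = τ⁻¹ := by simp [th, hτ, inv_pow]
      have hs : 1 + τ ≠ 0 := by
        rw [← sub_eq hF, sub_ne_zero, ← th_one (F := F) (m := m), hτ]
        exact fun h => ht (Units.ext (th_injective hF h).symm)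
      rw [hinv, ← hτ] at h1
      rw [hv1]
      field_simp at h1 ⊢
      apply mul_left_cancel₀ hs
      linear_combination h1
    have hc : (u * x * u⁻¹)⁻¹ * (x * x) = uS hF v1' v2' * x * (uS hF v1' v2')⁻¹ := by rw [he, hv]
    obtain ⟨g, hg1, hg2⟩ := witness (hB.cj κ) (isInt_self H') ((isInt_self H').conj u)
      ((isInt_self H').conj (uS hF v1' v2')) (H'.mul_mem hx hx)
      (mem_cj.mpr (show u⁻¹ * (u * x * u⁻¹) * u ∈ H' by simpa [mul_assoc] using hx))
      (mem_cj.mpr (show (uS hF v1' v2')⁻¹ * (uS hF v1' v2' * x * (uS hF v1' v2')⁻¹) * uS hF v1' v2' ∈ H' by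
        simpa [mul_assoc] using hx))
      (by rw [← hc, mul_inv_cancel_left])
    have hU1 := key α 0 hα g hg1
    have hU2 := key v1' v2' (hv' ▸ hv1W) _ hg2
    have hxx : x * x ∈ U hF := by simpa using (U hF).mul_mem hU1 hU2
    obtain ⟨r, s, hrs⟩ := hxx
    rw [dS_mul, show uS hF r s = uS hF r s * dS hF 1 by rw [dS_one, mul_one],
      show dS hF (t * t) = uS hF 0 0 * dS hF (t * t) by rw [uS_zero, one_mul]] at hrs
    have htt : ((t : F)) ^ 2 = 1 := by
      rw [sq, ← Units.val_mul, (form_injective hF hrs).2.2, Units.val_one]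
    haveI := charTwo hF
    exact ht (Units.ext (CharTwo.sq_injective (show (fun x : F => x ^ 2) (t : F) = (fun x : F => x ^ 2) ((1 : Fˣ) : F) by simp [htt])))
  -- inside the root group
  by_contra hne
  set S := {P : Subgroup 𝔾 | IsInt H P ∧ Z hF ≤ P ∧ P ≤ U hF ∧ P ≠ Z hF}
  obtain ⟨P, ⟨hPi, hPZ, hPU, hPne⟩, hmin⟩ := Set.exists_min_image S (fun P => Nat.card P) (Set.toFinite _)
    ⟨H, isInt_self H, hZ, fun g hg => hall g hg, hne⟩
  obtain ⟨y, hy, hyZ⟩ : ∃ y ∈ P, y ∉ Z hF := by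
    by_contra hn
    simp only [not_exists, not_and, not_not] at hn
    exact hPne (le_antisymm hn hPZ)
  obtain ⟨e, f, rfl⟩ := hPU hy
  have he : e ≠ 0 := fun h => hyZ ⟨f, by rw [h]⟩
  have hPU' : ¬ U hF ≤ P := fun h => by
    obtain ⟨g, hg⟩ := hPi.exists_le
    exact no_U hF hm hB hH g (h.trans hg)
  obtain ⟨t, ht⟩ : ∃ t : Fˣ, th m (t : F) * e ∉ coords hF P := by
    by_contra hn
    simp only [not_exists, not_not] at hn
    refine hPU' (U_le_of_coords hF fun a => ?_)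
    by_cases ha : a = 0
    · exact ⟨0, by rw [ha, uS_zero]; exact P.one_mem⟩
    obtain ⟨s, hs⟩ := (th_bijective hF).2 (a / e)
    have s0 : s ≠ 0 := by rintro rfl; rw [th_zero] at hs; exact div_ne_zero ha he hs.symm
    have := hn (Units.mk0 s s0)
    rwa [Units.val_mk0, hs, div_mul_cancel₀ _ he] at this
  have hstab : ∀ s : Fˣ, ∀ w, uS hF (th m (s : F) * e) w ∈ cj (dS hF s) P := by
    intro s w
    rw [mem_cj]
    have hh : ∀ a b, (dS hF s)⁻¹ * uS hF a b * dS hF s =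
        uS hF (th m ((s⁻¹ : Fˣ) : F) * a) (th m ((s⁻¹ : Fˣ) : F) * ((s⁻¹ : Fˣ) : F) ^ 2 * b) := fun a b => by
      rw [← dS_uS, dS_inv, dS_inv, inv_inv]
    rw [hh, ← mul_assoc, ← th_mul, Units.inv_mul, th_one, one_mul]
    have := P.mul_mem hy (hPZ ⟨th m ((s⁻¹ : Fˣ) : F) * ((s⁻¹ : Fˣ) : F) ^ 2 * w - f, rfl⟩)
    rw [uS_mul] at this
    simpa using this
  have hinter : ∀ s : Fˣ, cj (dS hF s) P = P ∨ P ⊓ cj (dS hF s) P = Z hF := by
    intro s
    have hZs : Z hF ≤ cj (dS hF s) P := fun z hz => mem_cj.mpr (hPZ (by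
      have := borel_Z hF hm (g := (dS hF s)⁻¹) (by rw [dS_inv, smul_dS_inf]) hz
      rwa [inv_inv] at this))
    by_cases h : P ⊓ cj (dS hF s) P = Z hF
    · exact Or.inr h
    left
    have hle := hmin (P ⊓ cj (dS hF s) P) ⟨hPi.inf (hPi.conj _), le_inf hPZ hZs, inf_le_left.trans hPU, h⟩
    have e' := Subgroup.eq_of_le_of_card_ge (inf_le_left : P ⊓ cj (dS hF s) P ≤ P) hle
    exact (Subgroup.eq_of_le_of_card_ge (e'.ge.trans inf_le_right) (card_cj _ P).le).symm
  set τ := th m (t : F)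
  have hσ : 1 + τ ≠ 0 := by
    intro h
    rw [← sub_eq hF, sub_eq_zero] at h
    exact ht ⟨f, by rw [← h, one_mul]; exact hy⟩
  obtain ⟨r, hr⟩ := (th_bijective hF).2 (1 + τ)
  have r0 : r ≠ 0 := by rintro rfl; rw [th_zero] at hr; exact hσ hr.symm
  set b := uS hF (τ * e) 0
  have hbP : b ∈ cj (dS hF t) P := hstab t 0
  have hce : ∃ w, b⁻¹ * uS hF e f = uS hF (th m ((Units.mk0 r r0 : Fˣ) : F) * e) w := by
    refine ⟨?_, ?_⟩
    rotate_left
    rw [uS_inv, uS_mul, Units.val_mk0, hr, show τ * e + e = (1 + τ) * e by ring]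
  obtain ⟨w, hw⟩ := hce
  obtain ⟨g, hg1, hg2⟩ := witness hB hPi (hPi.conj (dS hF t)) (hPi.conj (dS hF (Units.mk0 r r0)))
    hy hbP (hw ▸ hstab (Units.mk0 r r0) w) (mul_inv_cancel_left b _).symm
  rcases hinter t with h | h
  · exact ht ⟨0, h ▸ hbP⟩
  rcases hinter (Units.mk0 r r0) with h' | h'
  · have : b⁻¹ * uS hF e f ∈ P := h' ▸ (hw ▸ hstab (Units.mk0 r r0) w)
    have := P.mul_mem hy (P.inv_mem this)
    rw [_root_.mul_inv_rev, inv_inv, mul_inv_cancel_left] at this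
    exact ht ⟨0, this⟩
  rw [h] at hg1
  rw [h'] at hg2
  have := (Z hF).mul_mem hg1 hg2
  rw [mul_inv_cancel_left] at this
  exact hyZ this

end CfsgLib.Suzuki.BinarySz
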