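/-
Two elements of order five in a Suzuki group with product of order five, and arithmetic of exponents.
-/
import Cfsg.Agent.Lib.Suzuki.Fpf
import Cfsg.Agent.Lib.Suzuki.Fixed
import Cfsg.Agent.Lib.Suzuki.Partition

set_option maxHeartbeats 1000000

namespace CfsgLib.Suzuki.BinarySz

open Cfsg CfsgLib.Suzuki Polynomial

theorem exp_sum_field {K : Type*} [Field K] {i j : K} (hi : i ^ 4 = 1) (hj : j ^ 4 = 1)
    (hs : i + j = 1) : (3 : K) = 0 ∨ (5 : K) = 0 := by
  have hj' : j = 1 - i := by linear_combination hs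
  subst hj'
  have h1 : (i ^ 2 - 1) * (i ^ 2 + 1) = 0 := by linear_combination hi
  have h2 : ((1 - i) ^ 2 - 1) * ((1 - i) ^ 2 + 1) = 0 := by linear_combination hj
  rcases mul_eq_zero.mp h1 with e | e <;> rcases mul_eq_zero.mp h2 with f | f
  · left
    have g : (1 : K) - 2 * i = 0 := by linear_combination f - e
    linear_combination (-4) * e + (-(1 + 2 * i)) * g
  · right
    have g : (3 : K) - 2 * i = 0 := by linear_combination f - e
    linear_combination (3 + 2 * i) * g + 4 * e
  · right
    have g : (-1 : K) - 2 * i = 0 := by linear_combination f - e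
    linear_combination 4 * e + (-1 + 2 * i) * g
  · right
    have g : (1 : K) - 2 * i = 0 := by linear_combination f - e
    linear_combination 4 * e + (1 + 2 * i) * g

theorem exp_sum_25 : ∀ i : ZMod 25, i ^ 4 = 1 → (1 - i) ^ 4 = 1 → False := by decide

theorem exp_four_five : ∀ i : ZMod 5, i ^ 4 = 1 → i ^ 2 = 1 ∨ i ^ 2 = 4 := by decide

variable {F : Type*} [Field F] [Fintype F] {m : ℕ} (hF : Fintype.card F = 2 ^ (2 * m + 1))

set_option quotPrecheck false in
local notation "𝔾" => ↥(Cfsg.Sz F m)

include hF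

theorem pow_five_of_trace (hm : 1 ≤ m) {x : 𝔾} (h : x.1.1.trace = 1) : x ^ 5 = 1 ∧ x ≠ 1 := by
  haveI := charTwo hF
  refine ⟨mat_injective ?_, ?_⟩
  · have h0 := Matrix.aeval_self_charpoly x.1.1
    rw [charpoly_form hF hm x, h, one_pow, map_one] at h0
    simp only [map_add, map_sub, map_mul, map_pow, map_one, aeval_X, one_mul] at h0
    rw [mat_pow]
    have h1 : x.1.1 ^ 5 + 1 = 0 := by
      have := congrArg (fun A => (x.1.1 + 1) * A) h0
      simp only [mul_zero] at this
      rw [← this]
      noncomm_ring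
    show x.1.1 ^ 5 = (1 : Matrix (Fin 4) (Fin 4) F)
    rw [eq_neg_of_add_eq_zero_left h1]
    ext i j
    simp [CharTwo.neg_eq]
  · rintro rfl
    have h4 : (4 : F) = 0 := by linear_combination (2 : F) * two_eq_zero hF
    have : (1 : 𝔾).1.1.trace = (4 : F) := by simp [Matrix.trace_one]
    rw [h, h4] at this
    exact one_ne_zero this

theorem trace_uw (a b : F) : (uS hF a b * wS hF).1.1.trace = fp m a b + th m a := by
  have h2 := two_eq_zero hF
  show (mU m a b * mW).trace = _
  simp [Matrix.trace, Matrix.diag, Matrix.mul_apply, mU, mW, Fin.sum_univ_four]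

theorem trace_uwuw (a b c d : F) : ((uS hF a b * wS hF) * (uS hF c d * wS hF)).1.1.trace =
    a * c + (b + th m a * a) * d + fp m a b * fp m c d + th m a * th m c + b * (d + th m c * c) + a * c := by
  have h2 := two_eq_zero hF
  show (mU m a b * mW * (mU m c d * mW)).trace = _
  simp [Matrix.trace, Matrix.diag, Matrix.mul_apply, mU, mW, Fin.sum_univ_four]
  linear_combination 2 * h2

/-- A conjugate of the standard element of order five, with product of order five and not commuting. -/
theorem exists_five (hm : 1 ≤ m) : ∃ x v : 𝔾,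
    x ^ 5 = 1 ∧ x ≠ 1 ∧ (x * (v * x * v⁻¹)) ^ 5 = 1 ∧ x * (v * x * v⁻¹) ≠ 1 ∧
      ¬ Commute x (v * x * v⁻¹) := by
  have h2 := two_eq_zero hF
  obtain ⟨w0, w00, w01⟩ := exists_not_zero_one hF hm
  set s := 1 + th m w0 + w0 with hs
  have s0 : s ≠ 0 := by
    intro e
    have e' : th m w0 + w0 = 1 := by linear_combination e - h2
    have e'' := congrArg (th m) e'
    rw [th_add hF, th_th hF, th_one] at e''
    have h3 : w0 * (w0 - 1) = 0 := by linear_combination e'' - e'
    rcases mul_eq_zero.mp h3 with h | h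
    · exact w00 h
    · exact w01 (sub_eq_zero.mp h)
  have s1 : s ≠ 1 := by
    intro e
    apply th_ne_self hF w00 w01
    linear_combination e - w0 * h2
  set k := s⁻¹ with hk
  have k0 : k ≠ 0 := inv_ne_zero s0
  have tk0 : th m k ≠ 0 := fun h => k0 (th_eq_zero_iff.mp h)
  set c := th m k / k with hc
  set z := k / th m k with hz
  set D := k * (th m w0 + th m z + z) with hD
  have hk' : k ≠ 1 := fun h => s1 (inv_eq_one.mp h)
  have hc1 : c ≠ 1 := by
    rw [hc, Ne, div_eq_one_iff_eq k0]
    exact th_ne_self hF k0 hk'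
  have hc0 : c ≠ 0 := div_ne_zero tk0 k0
  have hth : th m (k⁻¹) = (th m k)⁻¹ := by simp [th, inv_pow]
  have tc : th m c = k ^ 2 / th m k := by
    rw [hc, div_eq_mul_inv, th_mul, hth, th_th hF, div_eq_mul_inv]
  have key : th m D + c * D = 1 + th m c * (c ^ 2 + c + 1) := by
    have hts : (th m k)⁻¹ = 1 + w0 ^ 2 + th m w0 := by
      rw [← hth, hk, inv_inv, hs, th_add hF, th_add hF, th_one, th_th hF]
    have ew : th m (th m w0 + th m z + z) + (th m w0 + th m z + z) = (th m k)⁻¹ + 1 + z + z ^ 2 := by
      rw [th_add hF, th_add hF, th_th hF, th_th hF, hts]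
      linear_combination (th m z - 1) * h2
    set y := th m w0 + th m z + z
    have L : th m D + c * D = th m k * (th m y + y) := by
      rw [hD, th_mul, hc]; field_simp
    rw [L, ew, tc, hc, hz]
    clear_value k
    field_simp
    ring
  set x := uS hF 0 1 * wS hF with hx
  set v := uS hF c (D + 1) with hv
  have tx : x.1.1.trace = 1 := by
    rw [hx, trace_uw hF]; simp [fp, th_zero, th_one]
  have tb : (x * (v * x * v⁻¹)).1.1.trace = 1 := by
    have e : x * (v * x * v⁻¹) = v * ((uS hF c (D + th m c * c) * wS hF) * (uS hF c D * wS hF)) * v⁻¹ := by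
      have e1 : v⁻¹ * uS hF 0 1 = uS hF c (D + th m c * c) := by
        rw [hv, uS_inv, uS_mul]; congr 1
        · simp
        · linear_combination h2
      have e2 : v * uS hF 0 1 = uS hF c D := by
        rw [hv, uS_mul]; congr 1
        · simp
        · linear_combination h2
      rw [hx, ← e1, ← e2]; group
    rw [e]
    have e3 : ∀ A B : 𝔾, (A * B * A⁻¹).1.1.trace = B.1.1.trace := fun A B => by
      rw [mat_mul, Matrix.trace_mul_comm, ← mat_mul, ← mul_assoc, inv_mul_cancel, one_mul]
    rw [e3, trace_uwuw hF]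
    have ef : fp m c (D + th m c * c) = c * D + th m c * c ^ 2 + th m D := by
      simp only [fp, th_add hF, th_mul, th_th hF]
      linear_combination (th m c * c ^ 2) * h2
    rw [ef]
    simp only [fp]
    clear_value c D
    linear_combination (th m c * c + th m c + (c * D + th m c * c ^ 2 + th m D) + 1) * key +
      ((th m c * c + th m c + (c * D + th m c * c ^ 2 + th m D) + 1) * (th m c * (c ^ 2 + c + 1)) +
        c ^ 2 + D ^ 2 + 2 * (th m c * c) * D - th m c * c * th m c -
        th m c * c * (c * D + th m c * c ^ 2 + th m D) - th m c * (c * D + th m c * c ^ 2 + th m D)) * h2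
  obtain ⟨x5, x1⟩ := pow_five_of_trace hF hm tx
  obtain ⟨p5, p1⟩ := pow_five_of_trace hF hm tb
  refine ⟨x, v, x5, x1, p5, p1, fun hcom => ?_⟩
  -- the square of the conjugator would invert or centralise
  have ht : orderOf x = 5 := orderOf_eq_prime (hp := ⟨by norm_num⟩) x5 x1
  have hfx : FPF x := by
    intro p hp hfix
    rcases classify_point hF hm x1 hp hfix with h | h
    · have := orderOf_dvd_of_conjSet _ h
      rw [ht, card_U] at this
      have := (Nat.prime_five.dvd_of_dvd_pow (Nat.prime_five.dvd_of_dvd_pow this))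
      norm_num at this
    · have := orderOf_dvd_of_conjSet _ h
      rw [ht, card_T] at this
      have h5 : 2 ^ (2 * m + 1) % 5 = 2 ∨ 2 ^ (2 * m + 1) % 5 = 3 := by
        clear * - m
        induction m with
        | zero => simp
        | succ n ih =>
          rw [show 2 * (n + 1) + 1 = 2 * n + 1 + 2 by ring, pow_add]
          omega
      omega
  haveI := fpf_centralizer_cyclic hF hm x1 hfx
  set C := Subgroup.centralizer ({x} : Set 𝔾)
  have hbC : v * x * v⁻¹ ∈ C := Subgroup.mem_centralizer_singleton_iff.mpr hcom.eq.symm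
  have hxC : x ∈ C := Subgroup.mem_centralizer_singleton_iff.mpr rfl
  classical
  letI : Fintype C := Fintype.ofFinite _
  let S : Finset C := Finset.univ.filter fun a => a ^ 5 = 1
  have hsub : ((Finset.range 5).image fun i => (⟨x, hxC⟩ : C) ^ i) = S := by
    refine Finset.eq_of_subset_of_card_le ?_ ?_
    · intro a ha
      obtain ⟨i, -, rfl⟩ := Finset.mem_image.mp ha
      refine Finset.mem_filter.mpr ⟨Finset.mem_univ _, Subtype.ext ?_⟩
      simp only [SubmonoidClass.coe_pow, OneMemClass.coe_one, ← pow_mul, mul_comm i 5]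
      rw [pow_mul, x5, one_pow]
    · rw [Finset.card_image_of_injOn, Finset.card_range]
      · exact IsCyclic.card_pow_eq_one_le (by norm_num)
      · intro i hi j hj h
        have h' := congrArg Subtype.val h
        simp only [SubmonoidClass.coe_pow] at h'
        exact pow_injOn_Iio_orderOf (by simpa [ht] using hi) (by simpa [ht] using hj) h'
  have : (⟨_, hbC⟩ : C) ∈ S := Finset.mem_filter.mpr ⟨Finset.mem_univ _, Subtype.ext (by
    simp only [SubmonoidClass.coe_pow, OneMemClass.coe_one, conj_pow, x5, mul_one, mul_inv_cancel])⟩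
  rw [← hsub] at this
  obtain ⟨i, -, hi⟩ := Finset.mem_image.mp this
  have hi' : x ^ i = v * x * v⁻¹ := congrArg Subtype.val hi
  have h4 : (i : ZMod 5) ^ 4 = 1 := by
    haveI : Fact (Nat.Prime 5) := ⟨by norm_num⟩
    refine ZMod.pow_card_sub_one_eq_one fun h0 => x1 ?_
    rw [ZMod.natCast_eq_zero_iff] at h0
    have : x ^ i = 1 := orderOf_dvd_iff_pow_eq_one.mp (ht ▸ h0)
    rw [hi'] at this
    simpa [mul_assoc] using congrArg (fun w => v⁻¹ * w * v) this
  have hsq : v * v * x * (v * v)⁻¹ = x ^ (i * i) := by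
    rw [pow_mul, hi', conj_pow, hi']; group
  have hvv : v * v = uS hF 0 (th m c * c) := by rw [hv, uS_sq]
  rw [hvv] at hsq
  set e := th m c * c with he
  have hl : (uS hF 0 e * x) • suzukiPointInfinity F = pt m 0 (e + 1) := by
    rw [hx, ← mul_assoc, uS_mul, mul_smul, smul_wS_inf, smul_uS_zero]
    simp
  rcases exp_four_five _ h4 with e4 | e4
  · have : x ^ (i * i) = x ^ 1 := pow_eq_pow_iff_modEq.mpr (by
      rw [ht, ← ZMod.natCast_eq_natCast_iff]; push_cast; rw [← e4]; ring)
    rw [this, pow_one, mul_inv_eq_iff_eq_mul] at hsq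
    rw [hsq, mul_smul, smul_uS_inf, hx, mul_smul, smul_wS_inf, smul_uS_zero] at hl
    have h := (pt_injective hl).2
    have : e = 0 := by linear_combination -h
    rcases mul_eq_zero.mp this with h | h
    · exact hc0 (th_eq_zero_iff.mp h)
    · exact hc0 h
  · have : x ^ (i * i) = x ^ 4 := pow_eq_pow_iff_modEq.mpr (by
      rw [ht, ← ZMod.natCast_eq_natCast_iff]; push_cast; rw [← e4]; ring)
    rw [this, show x ^ 4 = x⁻¹ from eq_inv_of_mul_eq_one_left (by rw [← pow_succ, x5]),
      mul_inv_eq_iff_eq_mul] at hsq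
    rw [hsq, mul_smul, smul_uS_inf, hx, _root_.mul_inv_rev, wS_inv, uS_inv, mul_smul, smul_uS_inf,
      smul_wS_inf, ← pt_zero (m := m)] at hl
    have h := (pt_injective hl).2
    exact hc1 (eq_one_of_th_mul hF (by rw [← he]; linear_combination -h - h2))

end CfsgLib.Suzuki.BinarySz
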