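/-
A minimal intersection of odd order is impossible for a binary action of a Suzuki group.
-/
import Cfsg.Agent.Lib.Suzuki.BinaryCosets.Minimal
import Cfsg.Agent.Lib.Suzuki.BinaryCosets.Five
import Cfsg.Agent.Lib.Suzuki.Subgroups
import Cfsg.Agent.Lib.Suzuki.ClassSquares.Main

set_option maxHeartbeats 1000000

namespace CfsgLib.Suzuki.BinarySz

open Cfsg CfsgLib.Suzuki CfsgLib.BinaryCosets

theorem exp_sum_prime {p : ℕ} [Fact p.Prime] (h3 : p ≠ 3) (h5 : p ≠ 5) {i j : ZMod p} (hi : i ^ 4 = 1)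
    (hj : j ^ 4 = 1) : i + j ≠ 1 := by
  intro hs
  rcases exp_sum_field hi hj hs with h | h
  · exact h3 ((Nat.prime_dvd_prime_iff_eq Fact.out Nat.prime_three).mp
      ((ZMod.natCast_eq_zero_iff _ _).mp (by exact_mod_cast h)))
  · exact h5 ((Nat.prime_dvd_prime_iff_eq Fact.out Nat.prime_five).mp
      ((ZMod.natCast_eq_zero_iff _ _).mp (by exact_mod_cast h)))

/-- Cyclic subgroups of order five are conjugate when a Sylow subgroup is cyclic. -/
theorem conj_five {G : Type*} [Group G] [Finite G] [Fact (Nat.Prime 5)]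
    (hcyc : ∀ P : Sylow 5 G, IsCyclic P) {x y : G} (hx : orderOf x = 5) (hy : orderOf y = 5) :
    ∃ g : G, g⁻¹ * y * g ∈ Subgroup.zpowers x := by
  have hp : ∀ z : G, orderOf z = 5 → IsPGroup 5 (Subgroup.zpowers z) := fun z hz =>
    IsPGroup.of_card (n := 1) (by rw [Nat.card_zpowers, hz, pow_one])
  obtain ⟨P, hP⟩ := (hp x hx).exists_le_sylow
  obtain ⟨Q, hQ⟩ := (hp y hy).exists_le_sylow
  obtain ⟨g, hg⟩ := MulAction.exists_smul_eq G P Q
  refine ⟨g, ?_⟩
  have hyP : g⁻¹ * y * g ∈ (P : Subgroup G) := by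
    have h := hQ (Subgroup.mem_zpowers y)
    rw [← hg, Sylow.coe_subgroup_smul] at h
    obtain ⟨w, hw, rfl⟩ := h
    have e : ∀ z : G, g⁻¹ * (g * z * g⁻¹) * g = z := fun z => by group
    show g⁻¹ * (g * w * g⁻¹) * g ∈ (P : Subgroup G)
    rw [e]; exact hw
  haveI := hcyc P
  classical
  letI : Fintype P := Fintype.ofFinite _
  set X : P := ⟨x, hP (Subgroup.mem_zpowers x)⟩
  have hX : orderOf X = 5 := (Subgroup.orderOf_mk _ _).trans hx
  let S : Finset P := Finset.univ.filter fun a => a ^ 5 = 1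
  have hsub : ((Finset.range 5).image fun i => X ^ i) = S := by
    refine Finset.eq_of_subset_of_card_le ?_ ?_
    · intro a ha
      obtain ⟨i, -, rfl⟩ := Finset.mem_image.mp ha
      refine Finset.mem_filter.mpr ⟨Finset.mem_univ _, ?_⟩
      rw [← pow_mul, mul_comm, pow_mul, orderOf_dvd_iff_pow_eq_one.mp hX.dvd, one_pow]
    · rw [Finset.card_image_of_injOn, Finset.card_range]
      · exact IsCyclic.card_pow_eq_one_le (by norm_num)
      · exact fun i hi j hj h => pow_injOn_Iio_orderOf (by simpa [hX] using hi) (by simpa [hX] using hj) h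
  have : (⟨_, hyP⟩ : P) ∈ S := Finset.mem_filter.mpr ⟨Finset.mem_univ _, Subtype.ext (by
    simp only [SubmonoidClass.coe_pow, OneMemClass.coe_one]
    have := conj_pow (i := 5) (a := g⁻¹) (b := y)
    rw [inv_inv] at this
    rw [this, ← hy, pow_orderOf_eq_one, mul_one, inv_mul_cancel])⟩
  rw [← hsub] at this
  obtain ⟨i, -, hi⟩ := Finset.mem_image.mp this
  exact Subgroup.mem_zpowers_iff.mpr ⟨i, by rw [zpow_natCast]; exact congrArg Subtype.val hi⟩

variable {F : Type*} [Field F] [Fintype F] {m : ℕ} (hF : Fintype.card F = 2 ^ (2 * m + 1))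

set_option quotPrecheck false in
local notation "𝔾" => ↥(Cfsg.Sz F m)

include hF

theorem not_odd_fixed (hm : 1 ≤ m) {H M : Subgroup 𝔾} (hB : Binary H) (hM : IsMin H M)
    (hodd : ¬ 2 ∣ Nat.card M) {x : 𝔾} (hxM : x ∈ M) (hx1 : x ≠ 1)
    {p : Projectivization F (Fin 4 → F)} (hp : p ∈ suzukiOvoid F m) : x • p ≠ p := by
  intro hfix
  have hox : ¬ 2 ∣ orderOf x := fun h => hodd (h.trans (Subgroup.orderOf_dvd_natCard M hxM))
  rcases classify_point hF hm hx1 hp hfix with h | ⟨-, k, hk⟩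
  · have := orderOf_dvd_of_conjSet _ h
    rw [card_U, ← pow_mul] at this
    obtain ⟨j, -, hj⟩ := (Nat.dvd_prime_pow Nat.prime_two).mp this
    cases j with
    | zero => exact hx1 (orderOf_eq_one_iff.mp hj)
    | succ n => exact hox ⟨2 ^ n, by rw [hj, pow_succ']⟩
  obtain ⟨t, ht⟩ := (mem_T hF).mp hk
  have ht1 : t ≠ 1 := fun e => hx1 (by
    rw [e, dS_one] at ht
    simpa [mul_assoc] using congrArg (fun w => k * w * k⁻¹) ht)
  set M' := cj k⁻¹ M
  have hM' := hM.conj k⁻¹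
  have hodd' : ¬ 2 ∣ Nat.card M' := by rwa [card_cj]
  have hxM' : dS hF t ∈ M' := mem_cj.mpr (by rw [← ht]; simpa [mul_assoc] using hxM)
  set u := uS hF (1 : F) 0
  set x' := dS hF t
  have e1 : ∃ e, (u * x' * u⁻¹)⁻¹ * (x' * x') = uS hF (1 + th m ((t⁻¹ : Fˣ) : F) * 1) e * x' := by
    refine ⟨?_, ?_⟩
    rotate_left
    rw [show (u * x' * u⁻¹)⁻¹ * (x' * x') = u * (x'⁻¹ * u⁻¹ * (x'⁻¹)⁻¹) * x' by group, dS_inv, uS_inv, dS_uS, uS_mul]
  obtain ⟨e, he⟩ := e1
  obtain ⟨c, d, hcd⟩ := exists_conj_torus hF hm (1 + th m ((t⁻¹ : Fˣ) : F) * 1) e ht1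
  have hxx : x' * x' ≠ 1 := fun h => ht1 (by
    rw [dS_mul, ← dS_one hF] at h
    have htt := dS_inj hF h
    haveI := charTwo hF
    refine Units.ext (CharTwo.sq_injective ?_)
    show ((t : F)) ^ 2 = ((1 : Fˣ) : F) ^ 2
    rw [sq, ← Units.val_mul, htt]; simp)
  have hb := hM'.no_triangle hB (M'.mul_mem hxM' hxM') hxx
    (mem_cj.mpr (show u⁻¹ * (u * x' * u⁻¹) * u ∈ M' by simpa [mul_assoc] using hxM'))
    (mem_cj.mpr (show (uS hF c d)⁻¹ * (uS hF c d * x' * (uS hF c d)⁻¹) * uS hF c d ∈ M' by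
      simpa [mul_assoc] using hxM'))
    (by rw [hcd, ← he, mul_inv_cancel_left])
  have h1 := M'.mul_mem hb (M'.inv_mem hxM')
  rw [show u * x' * u⁻¹ * x'⁻¹ = u * (x' * u⁻¹ * x'⁻¹) by group, uS_inv, dS_uS, uS_mul] at h1
  have hne : (1 : F) + th m (t : F) * 1 ≠ 0 := by
    rw [mul_one, ← sub_eq hF, sub_ne_zero, ← th_one (F := F) (m := m)]
    exact fun h => ht1 (Units.ext (th_injective hF h).symm)
  have hd1 := (Subgroup.orderOf_dvd_natCard _ h1)
  have hd2 : ∀ e, orderOf (uS hF (1 + th m (t : F) * 1) e) ∣ 2 ^ ((2 * m + 1) * 2) := fun e => by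
    rw [pow_mul, ← card_U hF]
    exact Subgroup.orderOf_dvd_natCard _ ⟨_, _, rfl⟩
  have hone := Nat.eq_one_of_dvd_coprimes
    ((Nat.prime_two.coprime_iff_not_dvd.mpr hodd').pow_left ((2 * m + 1) * 2)) (hd2 _) hd1
  exact hne ((eq_one_iff_uS hF).mp (orderOf_eq_one_iff.mp hone)).1

theorem not_min_odd (hm : 1 ≤ m) {H M : Subgroup 𝔾} (hB : Binary H) (hM : IsMin H M) :
    2 ∣ Nat.card M := by
  classical
  by_contra hodd
  obtain ⟨x0, hx0, hx01⟩ := M.bot_or_exists_ne_one.resolve_left hM.2.1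
  have hox : ∀ y ∈ M, ¬ 2 ∣ orderOf y := fun y hy h => hodd (h.trans (Subgroup.orderOf_dvd_natCard M hy))
  have hfpf : ∀ y ∈ M, y ≠ 1 → ∀ p ∈ suzukiOvoid F m, y • p ≠ p := fun y hy hy1 p hp =>
    not_odd_fixed hF hm hB hM hodd hy hy1 hp
  obtain ⟨z, hz, hle⟩ : ∃ z, SS hF z ∧ M ≤ Subgroup.centralizer ({z} : Set 𝔾) := by
    rcases trichotomy hF hm M with ⟨p, hp, hfix⟩ | ⟨z, hz, hle⟩ | ⟨k, g, hk, hdiv, heq⟩
    · exact absurd (hfix x0 hx0) (hfpf x0 hx0 hx01 p hp)
    · refine ⟨z, hz, fun y hy => ?_⟩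
      obtain ⟨c, hc, -, hord, hN⟩ := ss_data hF hm hz
      set A := Subgroup.centralizer ({z} : Set 𝔾)
      set N := Subgroup.normalizer (A : Set 𝔾)
      haveI : (A.subgroupOf N).Normal := Subgroup.normal_in_normalizer
      have hidx : (A.subgroupOf N).index = c := by
        have h := (A.subgroupOf N).card_mul_index
        rw [Nat.card_congr (Subgroup.subgroupOfEquivOfLe Subgroup.le_normalizer).toEquiv, hN, mul_comm c] at h
        exact Nat.eq_of_mul_eq_mul_left Nat.card_pos h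
      have hpw := Subgroup.pow_index_mem (A.subgroupOf N) ⟨y, hle hy⟩
      rw [hidx] at hpw
      have hcop : Nat.Coprime c (orderOf y) := by
        have h2 : Nat.Coprime 2 (orderOf y) := Nat.prime_two.coprime_iff_not_dvd.mpr (hox y hy)
        rcases hc with rfl | rfl
        · exact h2
        · exact h2.pow_left 2
      obtain ⟨j, hj⟩ := exists_pow_eq_self_of_coprime hcop
      exact hj ▸ A.pow_mem (show y ^ c ∈ A from hpw) j
    · exfalso
      apply hodd
      rw [heq, card_map_conj, card_subGp hF hm hk hdiv]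
      exact Dvd.dvd.mul_right (Dvd.dvd.mul_right (dvd_pow (dvd_pow_self 2 (by omega)) (by norm_num)) _) _
  obtain ⟨c, hc, hcyc, hord, hN⟩ := ss_data hF hm hz
  set A := Subgroup.centralizer ({z} : Set 𝔾) with hA
  haveI := hcyc
  -- conjugates inside the torus are fourth roots of unity powers
  have expo : ∀ x ∈ A, x ≠ 1 → ∀ g : 𝔾, g * x * g⁻¹ ∈ A →
      ∃ i : ℕ, x ^ i = g * x * g⁻¹ ∧ (i : ZMod (orderOf x)) ^ 4 = 1 := by
    intro x hx hx1 g hg
    letI : Fintype A := Fintype.ofFinite _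
    set X : A := ⟨x, hx⟩
    have hXo : orderOf X = orderOf x := (Subgroup.orderOf_mk _ _).trans rfl
    have hsub : ((Finset.range (orderOf X)).image fun i => X ^ i) =
        Finset.univ.filter fun a : A => a ^ orderOf X = 1 := by
      refine Finset.eq_of_subset_of_card_le ?_ ?_
      · intro a ha
        obtain ⟨i, -, rfl⟩ := Finset.mem_image.mp ha
        refine Finset.mem_filter.mpr ⟨Finset.mem_univ _, ?_⟩
        rw [← pow_mul, mul_comm, pow_mul, pow_orderOf_eq_one, one_pow]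
      · rw [Finset.card_image_of_injOn, Finset.card_range]
        · exact IsCyclic.card_pow_eq_one_le (orderOf_pos X)
        · exact fun i hi j hj h => pow_injOn_Iio_orderOf (by simpa using hi) (by simpa using hj) h
    have hm' : (⟨_, hg⟩ : A) ∈ Finset.univ.filter fun a : A => a ^ orderOf X = 1 :=
      Finset.mem_filter.mpr ⟨Finset.mem_univ _, Subtype.ext (by
        simp only [SubmonoidClass.coe_pow, OneMemClass.coe_one, hXo, conj_pow, pow_orderOf_eq_one,
          mul_one, mul_inv_cancel])⟩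
    rw [← hsub] at hm'
    obtain ⟨i, -, hi⟩ := Finset.mem_image.mp hm'
    have hi' : x ^ i = g * x * g⁻¹ := congrArg Subtype.val hi
    refine ⟨i, hi', ?_⟩
    have hgN := ss_normalizer hF hm hz hx hx1 hg
    set N := Subgroup.normalizer (A : Set 𝔾)
    haveI : (A.subgroupOf N).Normal := Subgroup.normal_in_normalizer
    have hidx : (A.subgroupOf N).index = c := by
      have h := (A.subgroupOf N).card_mul_index
      rw [Nat.card_congr (Subgroup.subgroupOfEquivOfLe Subgroup.le_normalizer).toEquiv, hN, mul_comm c] at h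
      exact Nat.eq_of_mul_eq_mul_left Nat.card_pos h
    have h4 : g ^ 4 ∈ A := by
      have hpw := Subgroup.pow_index_mem (A.subgroupOf N) ⟨g, hgN⟩
      rw [hidx] at hpw
      have hpw' : g ^ c ∈ A := hpw
      rcases hc with rfl | rfl
      · have := A.pow_mem hpw' 2; rwa [← pow_mul] at this
      · exact hpw'
    letI : CommGroup A := IsCyclic.commGroup
    have hcx : g ^ 4 * x * (g ^ 4)⁻¹ = x := by
      have := congrArg Subtype.val (mul_comm (⟨_, h4⟩ : A) ⟨x, hx⟩)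
      rw [show g ^ 4 * x = x * g ^ 4 from this, mul_inv_cancel_right]
    have hpk : ∀ k : ℕ, g ^ k * x * (g ^ k)⁻¹ = x ^ i ^ k := by
      intro k
      induction k with
      | zero => simp
      | succ n ih =>
        rw [pow_succ' g, show g * g ^ n * x * (g * g ^ n)⁻¹ = g * (g ^ n * x * (g ^ n)⁻¹) * g⁻¹ by group,
          ih, ← conj_pow, ← hi', ← pow_mul, pow_succ']
    rw [hpk 4] at hcx
    have := (pow_eq_pow_iff_modEq (m := 1)).mp (hcx.trans (pow_one x).symm)
    rw [← ZMod.natCast_eq_natCast_iff] at this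
    push_cast at this
    exact this
  have bad : ∀ x ∈ M, 2 < orderOf x →
      ∃ i j : ZMod (orderOf x), i ^ 4 = 1 ∧ j ^ 4 = 1 ∧ i + j = 1 := by
    intro x hx hord2
    have hx1 : x ≠ 1 := fun e => by rw [e, orderOf_one] at hord2; omega
    obtain ⟨u, v, huv⟩ := ClassSquares.sq_all hF hm hord2 hx1
    have hu := hM.no_triangle hB hx hx1
      (mem_cj.mpr (show u⁻¹ * (u * x * u⁻¹) * u ∈ M by simpa [mul_assoc] using hx))
      (mem_cj.mpr (show v⁻¹ * (v * x * v⁻¹) * v ∈ M by simpa [mul_assoc] using hx)) huv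
    have hv : v * x * v⁻¹ ∈ A := by
      rw [show v * x * v⁻¹ = (u * x * u⁻¹)⁻¹ * x from eq_inv_mul_of_mul_eq huv.symm]
      exact A.mul_mem (A.inv_mem (hle hu)) (hle hx)
    obtain ⟨i, hi, hi4⟩ := expo x (hle hx) hx1 u (hle hu)
    obtain ⟨j, hj, hj4⟩ := expo x (hle hx) hx1 v hv
    refine ⟨i, j, hi4, hj4, ?_⟩
    rw [← hi, ← hj, ← pow_add] at huv
    have := (pow_eq_pow_iff_modEq (m := 1)).mp (huv.symm.trans (pow_one x).symm)
    rw [← ZMod.natCast_eq_natCast_iff] at this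
    push_cast at this
    exact this
  have h5 : ∀ p : ℕ, p.Prime → p ∣ Nat.card M → p = 5 := by
    intro p hp hpd
    haveI : Fact p.Prime := ⟨hp⟩
    obtain ⟨y, hy⟩ := exists_prime_orderOf_dvd_card' p hpd
    have hy' : orderOf (y : 𝔾) = p := by rw [Subgroup.orderOf_coe, hy]
    have hp2 : p ≠ 2 := fun e => hodd (e ▸ hpd)
    have hp3 : p ≠ 3 := fun e => (torusOrder_props hF hm hord).2.2.2
      (e ▸ hy' ▸ Subgroup.orderOf_dvd_natCard A (hle y.2))
    by_contra hne
    obtain ⟨i, j, hi, hj, hs⟩ := bad y y.2 (by have := hp.two_le; omega)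
    revert i j
    rw [hy']
    exact fun i j hi hj hs => exp_sum_prime hp3 hne hi hj hs
  haveI : Fact (Nat.Prime 5) := ⟨Nat.prime_five⟩
  have hexp : ∀ y ∈ M, y ^ 5 = 1 := by
    intro y hy
    by_contra hy5
    obtain ⟨e, he⟩ : ∃ e, orderOf y = 5 ^ e :=
      ⟨_, Nat.eq_prime_pow_of_unique_prime_dvd (orderOf_pos y).ne' fun {d} hd hdd =>
        h5 d hd (hdd.trans (Subgroup.orderOf_dvd_natCard M hy))⟩
    obtain ⟨e', rfl⟩ : ∃ e', e = e' + 2 := ⟨e - 2, by
      rcases e with _ | _ | e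
      · exact absurd (orderOf_dvd_iff_pow_eq_one.mp (he ▸ one_dvd 5)) hy5
      · exact absurd (orderOf_dvd_iff_pow_eq_one.mp (he ▸ (pow_one 5).dvd)) hy5
      · omega⟩
    have ho : orderOf (y ^ 5 ^ e') = 25 := by
      rw [orderOf_pow, he, pow_add, Nat.gcd_eq_right (Dvd.intro _ rfl)]
      rw [Nat.mul_div_cancel_left _ (by positivity)]; norm_num
    obtain ⟨i, j, hi, hj, hs⟩ := bad (y ^ 5 ^ e') (M.pow_mem hy _) (by omega)
    revert i j
    rw [ho]
    intro i j hi hj hs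
    exact exp_sum_25 i hi (by rw [← eq_sub_of_add_eq' hs]; exact hj)
  -- the group of order five
  have hx0o : orderOf x0 = 5 := orderOf_eq_prime (hexp x0 hx0) hx01
  have hMz : ∀ y ∈ M, y ∈ Subgroup.zpowers x0 := by
    intro y hy
    letI : Fintype A := Fintype.ofFinite _
    set X : A := ⟨x0, hle hx0⟩
    have hXo : orderOf X = 5 := (Subgroup.orderOf_mk _ _).trans hx0o
    have hsub : ((Finset.range 5).image fun i => X ^ i) =
        Finset.univ.filter fun a : A => a ^ 5 = 1 := by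
      refine Finset.eq_of_subset_of_card_le ?_ ?_
      · intro a ha
        obtain ⟨i, -, rfl⟩ := Finset.mem_image.mp ha
        refine Finset.mem_filter.mpr ⟨Finset.mem_univ _, ?_⟩
        rw [← pow_mul, mul_comm, pow_mul, ← hXo, pow_orderOf_eq_one, one_pow]
      · rw [Finset.card_image_of_injOn, Finset.card_range]
        · exact IsCyclic.card_pow_eq_one_le (by norm_num)
        · exact fun i hi j hj h => pow_injOn_Iio_orderOf (by simpa [hXo] using hi) (by simpa [hXo] using hj) h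
    have : (⟨y, hle hy⟩ : A) ∈ Finset.univ.filter fun a : A => a ^ 5 = 1 :=
      Finset.mem_filter.mpr ⟨Finset.mem_univ _, Subtype.ext (hexp y hy)⟩
    rw [← hsub] at this
    obtain ⟨i, -, hi⟩ := Finset.mem_image.mp this
    exact Subgroup.mem_zpowers_iff.mpr ⟨i, by rw [zpow_natCast]; exact congrArg Subtype.val hi⟩
  obtain ⟨x, v, x5, x1, p5, p1, hnc⟩ := exists_five hF hm
  have hox5 : orderOf x = 5 := orderOf_eq_prime x5 x1
  have hcj : ∀ y : 𝔾, orderOf y = 5 → ∃ g, y ∈ cj g M := by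
    intro y hy
    obtain ⟨g, hg⟩ := conj_five (fun P => isCyclic_sylow_odd hF hm (by norm_num) P) hx0o hy
    exact ⟨g, mem_cj.mpr (Subgroup.zpowers_le.mpr hx0 hg)⟩
  obtain ⟨g, hg⟩ := hcj x hox5
  set b := v * x * v⁻¹
  have hbo : orderOf b⁻¹ = 5 := orderOf_eq_prime
    (by rw [inv_pow, conj_pow, x5]; simp) (fun e => x1 (by
      simpa [b, mul_assoc] using congrArg (fun w => v⁻¹ * w * v) (inv_eq_one.mp e)))
  have hpo : orderOf (x * b) = 5 := orderOf_eq_prime p5 p1
  have hconj : ∀ y : 𝔾, orderOf y = 5 → ∃ k, y ∈ cj k (cj g M) := fun y hy => by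
    obtain ⟨k, hk⟩ := hcj y hy
    exact ⟨k * g⁻¹, by rwa [cj_cj, inv_mul_cancel_right]⟩
  obtain ⟨k1, hk1⟩ := hconj _ hpo
  obtain ⟨k2, hk2⟩ := hconj _ hbo
  have hin := (hM.conj g).no_triangle hB hg x1 hk1 hk2 (mul_inv_cancel_right x b).symm
  apply hnc
  obtain ⟨i, hi⟩ := Subgroup.mem_zpowers_iff.mp (hMz _ (mem_cj.mp hg))
  obtain ⟨j, hj⟩ := Subgroup.mem_zpowers_iff.mp (hMz _ (mem_cj.mp hin))
  have hcm : Commute (g⁻¹ * x * g) (g⁻¹ * (x * b) * g) := by
    rw [← hi, ← hj]; exact Commute.zpow_zpow_self _ _ _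
  have hcm' : Commute x (x * b) := by
    have h := congrArg (fun w => g * w * g⁻¹) hcm.eq
    show x * (x * b) = x * b * x
    simpa [mul_assoc] using h
  show x * b = b * x
  exact mul_left_cancel (hcm'.eq.trans (mul_assoc _ _ _))

end CfsgLib.Suzuki.BinarySz
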