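/-
The binary coset actions of a Suzuki group.
-/
import Cfsg.Agent.Lib.Suzuki.BinaryCosets.AboveCentre
import Cfsg.Agent.Lib.Suzuki.BinaryCosets.OddOrder

namespace CfsgLib.Suzuki.BinarySz

open Cfsg CfsgLib.Suzuki CfsgLib.BinaryCosets

theorem centre_map {G G' : Type*} [Group G] [Group G'] (e : G ≃* G') (K : Subgroup G) :
    (Subgroup.center (K.map e.toMonoidHom)).map (K.map e.toMonoidHom).subtype =
      ((Subgroup.center K).map K.subtype).map e.toMonoidHom := by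
  ext x
  constructor
  · rintro ⟨⟨x, y, hy, rfl⟩, hc, rfl⟩
    refine ⟨y, ⟨⟨y, hy⟩, Subgroup.mem_center_iff.mpr fun z => Subtype.ext (e.injective ?_), rfl⟩, rfl⟩
    have := congrArg Subtype.val (Subgroup.mem_center_iff.mp hc ⟨e z.1, ⟨z.1, z.2, rfl⟩⟩)
    show e (z.1 * y) = e (y * z.1)
    rw [map_mul, map_mul]
    exact this
  · rintro ⟨_, ⟨⟨y, hy⟩, hc, rfl⟩, rfl⟩
    refine ⟨⟨e y, ⟨y, hy, rfl⟩⟩, Subgroup.mem_center_iff.mpr ?_, rfl⟩
    rintro ⟨_, z, hz, rfl⟩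
    apply Subtype.ext
    have := congrArg Subtype.val (Subgroup.mem_center_iff.mp hc ⟨z, hz⟩)
    show e z * e y = e y * e z
    rw [← map_mul, ← map_mul]
    exact congrArg e this

variable {F : Type*} [Field F] [Fintype F] {m : ℕ} (hF : Fintype.card F = 2 ^ (2 * m + 1))

set_option quotPrecheck false in
local notation "𝔾" => ↥(Cfsg.Sz F m)

include hF

theorem binary_Z (hm : 1 ≤ m) : Binary (Z hF) := by
  have hfix : ∀ g x : 𝔾, x ≠ 1 → x ∈ Z hF → x ∈ cj g (Z hF) → cj g (Z hF) = Z hF := by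
    intro g x hx1 hx hxg
    obtain ⟨b, hb⟩ := hx
    have hg := conj_fix_inf hF (g := x) (x := g⁻¹) ⟨0, b, hb⟩ hx1 (by
      obtain ⟨c, hc⟩ := mem_cj.mp hxg
      rw [inv_inv]
      exact ⟨0, c, hc⟩)
    ext y
    rw [mem_cj]
    constructor
    · intro hy
      have := borel_Z hF hm (g := g) (by rw [← inv_inv g, inv_smul_eq_iff, hg]) hy
      simpa [mul_assoc] using this
    · intro hy
      have := borel_Z hF hm hg hy
      rwa [inv_inv] at this
  have invol : ∀ g : 𝔾, ∀ x ∈ cj g (Z hF), x * x = 1 := by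
    intro g x hx
    obtain ⟨b, hb⟩ := mem_cj.mp hx
    have h := uS_sq hF (0 : F) b
    rw [← hb, th_zero, zero_mul, uS_zero] at h
    simpa [mul_assoc] using congrArg (fun w => g * w * g⁻¹) h
  refine binary_of_TI (fun g hne => ?_) ?_
  · obtain ⟨x, ⟨hx, hx'⟩, hx1⟩ := (Z hF ⊓ cj g (Z hF)).bot_or_exists_ne_one.resolve_left hne
    exact hfix g x hx1 hx hx'
  · rintro g x hx hx1 y hy hy1 ⟨k, hk⟩
    have sx : x * x = 1 := invol 1 x (by rwa [cj_one])
    have sy := invol g y hy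
    have sxy := invol k _ hk
    have ix : x⁻¹ = x := inv_eq_of_mul_eq_one_right sx
    have iy : y⁻¹ = y := inv_eq_of_mul_eq_one_right sy
    have ixy : (x * y)⁻¹ = x * y := inv_eq_of_mul_eq_one_right sxy
    have hc : y * x = x * y := by rw [← ixy, _root_.mul_inv_rev, ix, iy]
    obtain ⟨b, hb⟩ := hx
    have hyU : y ∈ U hF := centralizer_unipotent hF hm ⟨0, b, hb⟩ hx1
      (Subgroup.mem_centralizer_singleton_iff.mpr hc)
    exact hfix g y hy1 (mem_Z_of_sq hF hyU sy) hy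

theorem eq_Z_of_binary (hm : 1 ≤ m) {H : Subgroup 𝔾} (hB : Binary H) (h1 : H ≠ ⊥) (h2 : H ≠ ⊤) :
    ∃ g, H = cj g (Z hF) := by
  classical
  haveI : Fact (Nat.Prime 2) := ⟨Nat.prime_two⟩
  obtain ⟨M, hM⟩ := exists_min (H := H) h1
  obtain ⟨z, hz⟩ := exists_prime_orderOf_dvd_card' 2 (not_min_odd hF hm hB hM)
  have hz1 : (z : 𝔾) ≠ 1 := fun e => by
    rw [show z = 1 from Subtype.ext e, orderOf_one] at hz; omega
  have hz2 : (z : 𝔾) * z = 1 := by
    have := congrArg Subtype.val (pow_orderOf_eq_one z)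
    rw [hz, sq] at this
    simpa using this
  obtain ⟨-, k, hk⟩ := invol_unip hF hm hz1 hz2
  have hzZ : k⁻¹ * z.1 * k ∈ Z hF := mem_Z_of_sq hF hk (by
    calc k⁻¹ * z.1 * k * (k⁻¹ * z.1 * k) = k⁻¹ * (z.1 * z.1) * k := by group
      _ = 1 := by rw [hz2]; group)
  rcases min_even hF hm hB h2 (hM.conj k⁻¹) (mem_cj.mpr (by simp [mul_assoc])) hzZ (fun e => hz1 (by
    simpa [mul_assoc] using congrArg (fun w => k * w * k⁻¹) e)) with h | h
  · obtain ⟨g, hg⟩ := (hM.1.conj k⁻¹).exists_le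
    rw [h] at hg
    refine ⟨g⁻¹, ?_⟩
    rw [← eq_Z_of_Z_le hF hm (hB.cj g) (fun e => h2 (Subgroup.eq_top_of_card_eq _ (by
      rw [← card_cj g H, e, Subgroup.card_top]))) hg, cj_cj, inv_mul_cancel, cj_one]
  · obtain ⟨g, hg⟩ := (hM.1.conj k⁻¹).exists_le
    exact absurd (h.trans hg) (no_U hF hm hB h2 g)

theorem centre_sylow (hm : 1 ≤ m) (P : Sylow 2 𝔾) :
    ∃ g, (Subgroup.center (P : Subgroup 𝔾)).map (P : Subgroup 𝔾).subtype = cj g (Z hF) := by
  obtain ⟨g, hg⟩ := exists_conj_eq hF hm P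
  refine ⟨g, ?_⟩
  have hP : ∀ x, x ∈ (P : Subgroup 𝔾) ↔ g⁻¹ * x * g ∈ U hF := fun x => by rw [hg]; exact mem_cj
  ext x
  rw [mem_cj]
  constructor
  · rintro ⟨⟨x, hx⟩, hc, rfl⟩
    obtain ⟨a, b, hab⟩ := (hP x).mp hx
    refine ⟨b, ?_⟩
    show g⁻¹ * x * g = _
    rw [hab, mem_center_U hF hm (a := a) (b := b) fun c d => ?_]
    have hcd : g * uS hF c d * g⁻¹ ∈ (P : Subgroup 𝔾) := (hP _).mpr ⟨c, d, by group⟩
    have h : g * uS hF c d * g⁻¹ * x = x * (g * uS hF c d * g⁻¹) :=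
      congrArg Subtype.val (Subgroup.mem_center_iff.mp hc ⟨_, hcd⟩)
    rw [← hab]
    calc g⁻¹ * x * g * uS hF c d = g⁻¹ * (x * (g * uS hF c d * g⁻¹)) * g := by group
      _ = g⁻¹ * (g * uS hF c d * g⁻¹ * x) * g := by rw [h]
      _ = _ := by group
  · rintro ⟨b, hb⟩
    have hx : x ∈ (P : Subgroup 𝔾) := (hP x).mpr ⟨0, b, hb⟩
    refine ⟨⟨x, hx⟩, Subgroup.mem_center_iff.mpr fun y => Subtype.ext ?_, rfl⟩
    obtain ⟨c, d, hcd⟩ := (hP y).mp y.2
    have h : uS hF c d * uS hF 0 b = uS hF 0 b * uS hF c d := by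
      rw [uS_mul, uS_mul]; simp [add_comm]
    rw [← hb, ← hcd] at h
    show y.1 * x = x * y.1
    calc y.1 * x = g * (g⁻¹ * y.1 * g * (g⁻¹ * x * g)) * g⁻¹ := by group
      _ = g * (g⁻¹ * x * g * (g⁻¹ * y.1 * g)) * g⁻¹ := by rw [h]
      _ = _ := by group

/-- The coset action is binary exactly for the trivial group and the centres of Sylow 2-subgroups. -/
theorem binary_iff (hm : 1 ≤ m) {G' : Type*} [Group G'] [Finite G'] (e : 𝔾 ≃* G') {H : Subgroup G'} (hH : H ≠ ⊤) :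
    Binary H ↔ (H = ⊥ ∨ ∃ P : Sylow 2 G', H = (Subgroup.center (P : Subgroup G')).map (P : Subgroup G').subtype) := by
  haveI : Fact (Nat.Prime 2) := ⟨Nat.prime_two⟩
  have hback : (H.map e.symm.toMonoidHom).map e.toMonoidHom = H := by
    ext x; simp
  constructor
  · intro hB
    by_cases h1 : H = ⊥
    · exact Or.inl h1
    right
    obtain ⟨g, hg⟩ := eq_Z_of_binary hF hm (hB.map e.symm)
      (fun h => h1 (by rw [← hback, h, Subgroup.map_bot]))
      (fun h => hH (by rw [← hback, h, Subgroup.map_top_of_surjective _ e.surjective]))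
    obtain ⟨g1, hg1⟩ := centre_sylow hF hm (Usyl hF hm)
    let c : 𝔾 ≃* G' := (MulAut.conj (g * g1⁻¹)).trans e
    have hc : Function.Surjective c.toMonoidHom := c.surjective
    refine ⟨(Usyl hF hm).mapSurjective hc, ?_⟩
    rw [Sylow.coe_mapSurjective, centre_map, hg1, ← hback, hg]
    have : (cj g1 (Z hF)).map c.toMonoidHom = (cj (g * g1⁻¹) (cj g1 (Z hF))).map e.toMonoidHom := by
      simp only [cj, Subgroup.map_map]; rfl
    rw [this, cj_cj, inv_mul_cancel_right]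
  · rintro (rfl | ⟨P, rfl⟩)
    · exact binary_bot
    obtain ⟨Q, hQ⟩ : ∃ Q : Sylow 2 𝔾, (Q : Subgroup 𝔾).map e.toMonoidHom = P :=
      ⟨P.mapSurjective (show Function.Surjective e.symm.toMonoidHom from e.symm.surjective), by
        rw [Sylow.coe_mapSurjective]; ext x; simp⟩
    obtain ⟨g, hg⟩ := centre_sylow hF hm Q
    rw [← hQ, centre_map, hg]
    exact ((binary_Z hF hm).cj g).map e

end CfsgLib.Suzuki.BinarySz
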